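import Groth.Agent.InjHull18.Torsion
import Mathlib.RingTheory.Ideal.AssociatedPrime.Basic
import Mathlib.RingTheory.LocalRing.ResidueField.Ideal
import Mathlib.LinearAlgebra.DFinsupp

/-!
# Indecomposable injectives
-/

universe u

open scoped DirectSum

namespace Groth.Agent.InjHull18

variable {R : Type u} [CommRing R] {M E : Type u} [AddCommGroup M] [Module R M]
  [AddCommGroup E] [Module R E]

theorem indecomposable_of_uniform [Nontrivial E]
    (h : ∀ N N' : Submodule R E, N ≠ ⊥ → N' ≠ ⊥ → N ⊓ N' ≠ ⊥) :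
    InjHull.IsIndecomposable R E :=
  ⟨inferInstance, fun N N' hc => by
    by_contra hh; push Not at hh; exact h N N' hh.1 hh.2 hc.inf_eq_bot⟩

theorem uniform_of_indecomposable (hE : InjHull.IsIndecomposable R E)
    (hinj : Module.Injective R E) (N N' : Submodule R E) (hN : N ≠ ⊥) (hN' : N' ≠ ⊥) :
    N ⊓ N' ≠ ⊥ := by
  obtain ⟨C, hC, hle, hess⟩ := exists_closure hinj N
  obtain ⟨Q, hQ⟩ := exists_isCompl_of_injective hC
  rcases hE.2 C Q hQ with h | h
  · exact absurd (le_bot_iff.1 (h ▸ hle)) hN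
  · have hCtop : C = ⊤ := by simpa [h] using hQ.sup_eq_top
    intro hbot
    refine hN' ?_
    have : N'.comap C.subtype = ⊥ := by
      refine eq_bot_of_inf_range hess ((Submodule.eq_bot_iff _).2 ?_)
      rintro x ⟨hx, n, rfl⟩
      exact Subtype.ext ((Submodule.eq_bot_iff _).1 hbot n ⟨n.2, hx⟩)
    refine (Submodule.eq_bot_iff _).2 fun x hx => ?_
    exact congrArg Subtype.val ((Submodule.eq_bot_iff _).1 this ⟨x, by simp [hCtop]⟩ hx)

theorem exists_zeroDivisor_prime (hE : InjHull.IsIndecomposable R E)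
    (hinj : Module.Injective R E) :
    ∃ p : Ideal R, p.IsPrime ∧ (p : Set R) = {r : R | ∃ x : E, x ≠ 0 ∧ r • x = 0} := by
  have := hE.1
  let p : Ideal R :=
    { carrier := {r | ∃ x : E, x ≠ 0 ∧ r • x = 0}
      add_mem' := by
        rintro a b ⟨x, hx, hax⟩ ⟨y, hy, hby⟩
        obtain ⟨z, hz, hz0⟩ := (Submodule.ne_bot_iff _).1 (uniform_of_indecomposable hE hinj
          (Submodule.span R {x}) (Submodule.span R {y})
          (by simpa [Submodule.span_singleton_eq_bot] using hx)
          (by simpa [Submodule.span_singleton_eq_bot] using hy))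
        obtain ⟨s, rfl⟩ := Submodule.mem_span_singleton.1 hz.1
        obtain ⟨t, ht⟩ := Submodule.mem_span_singleton.1 hz.2
        refine ⟨s • x, hz0, ?_⟩
        rw [add_smul, smul_comm a s x, hax, smul_zero, zero_add, ← ht, smul_comm b t y, hby,
          smul_zero]
      zero_mem' := (exists_ne (0 : E)).imp fun x hx => ⟨hx, zero_smul _ x⟩
      smul_mem' := by
        rintro c a ⟨x, hx, hax⟩
        exact ⟨x, hx, by rw [smul_eq_mul, mul_smul, hax, smul_zero]⟩ }
  refine ⟨p, Ideal.isPrime_iff.2 ⟨?_, ?_⟩, rfl⟩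
  · intro htop
    obtain ⟨x, hx, h1⟩ : (1 : R) ∈ p := htop ▸ Submodule.mem_top
    exact hx (by simpa using h1)
  · rintro a b ⟨x, hx, hab⟩
    by_cases hb : b • x = 0
    · exact Or.inr ⟨x, hx, hb⟩
    · exact Or.inl ⟨b • x, hb, by rwa [← mul_smul]⟩

section Prime

variable {p : Ideal R} [p.IsPrime] {f : (R ⧸ p) →ₗ[R] E}

theorem uniform_of_hull_prime (hf : InjHull.IsEssentialInj f) (N N' : Submodule R E)
    (hN : N ≠ ⊥) (hN' : N' ≠ ⊥) : N ⊓ N' ≠ ⊥ := by
  obtain ⟨y, hy, hy0⟩ := (Submodule.ne_bot_iff _).1 (hf.essential N hN)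
  obtain ⟨z, hz, hz0⟩ := (Submodule.ne_bot_iff _).1 (hf.essential N' hN')
  obtain ⟨a, ha⟩ := hy.2
  obtain ⟨b, hb⟩ := hz.2
  obtain ⟨a, rfl⟩ := Ideal.Quotient.mk_surjective a
  obtain ⟨b, rfl⟩ := Ideal.Quotient.mk_surjective b
  refine (Submodule.ne_bot_iff _).2 ⟨b • y, ⟨N.smul_mem b hy.1, ?_⟩, ?_⟩
  · have : b • y = a • z := by
      rw [← ha, ← hb, ← map_smul f, ← map_smul f]
      exact congrArg f (show Ideal.Quotient.mk p (b * a) = Ideal.Quotient.mk p (a * b) by
        rw [mul_comm])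
    rw [this]; exact N'.smul_mem a hz.1
  · intro h0
    rw [← ha, ← map_smul, ← map_zero f] at h0
    have h1 : b * a ∈ p := Ideal.Quotient.eq_zero_iff_mem.1 (hf.injective h0)
    rcases ‹p.IsPrime›.mem_or_mem h1 with h | h
    · exact hz0 (by rw [← hb, Ideal.Quotient.eq_zero_iff_mem.2 h, map_zero])
    · exact hy0 (by rw [← ha, Ideal.Quotient.eq_zero_iff_mem.2 h, map_zero])

theorem hull_prime_nontrivial (hf : InjHull.IsEssentialInj f) : Nontrivial E := by
  have : Nontrivial (R ⧸ p) := Ideal.Quotient.nontrivial_iff.2 ‹p.IsPrime›.ne_top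
  exact hf.injective.nontrivial

theorem indecomposable_hull_prime (hf : InjHull.IsEssentialInj f) :
    InjHull.IsIndecomposable R E :=
  have := hull_prime_nontrivial hf
  indecomposable_of_uniform (uniform_of_hull_prime hf)

theorem smul_injective_of_notMem (hf : InjHull.IsEssentialInj f) {s : R} (hs : s ∉ p) :
    Function.Injective (LinearMap.lsmul R E s) := by
  refine injective_of_comp hf ?_
  rw [← LinearMap.ker_eq_bot, Submodule.eq_bot_iff]
  intro x hx
  obtain ⟨a, rfl⟩ := Ideal.Quotient.mk_surjective x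
  simp only [LinearMap.mem_ker, LinearMap.comp_apply, LinearMap.lsmul_apply] at hx
  rw [← map_smul, ← map_zero f] at hx
  have h1 : s * a ∈ p := Ideal.Quotient.eq_zero_iff_mem.1 (hf.injective hx)
  exact Ideal.Quotient.eq_zero_iff_mem.2 ((‹p.IsPrime›.mem_or_mem h1).resolve_left hs)

/-- Elements outside `p` act bijectively on an injective hull of `R ⧸ p`. -/
theorem smul_bijective_of_notMem (hf : InjHull.IsInjectiveHull f) {s : R} (hs : s ∉ p) :
    Function.Bijective (LinearMap.lsmul R E s) := by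
  have hinj := smul_injective_of_notMem hf.toIsEssentialInj hs
  refine ⟨hinj, LinearMap.range_eq_top.1 ?_⟩
  obtain ⟨Q, hQ⟩ := exists_isCompl_range hf.isInjective _ hinj
  rcases (indecomposable_hull_prime hf.toIsEssentialInj).2 _ Q hQ with h | h
  · have := hull_prime_nontrivial hf.toIsEssentialInj
    obtain ⟨x, hx⟩ := exists_ne (0 : E)
    refine absurd ?_ hx
    apply hinj
    rw [LinearMap.range_eq_bot] at h
    simp [h]
  · simpa [h] using hQ.sup_eq_top

/-- An injective hull of `R ⧸ p` is one of the residue field at `p`. -/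
theorem exists_hull_residueField (hf : InjHull.IsInjectiveHull f) :
    ∃ g : p.ResidueField →ₗ[R] E, InjHull.IsInjectiveHull g := by
  let j : (R ⧸ p) →ₗ[R] p.ResidueField :=
    (IsScalarTower.toAlgHom R (R ⧸ p) p.ResidueField).toLinearMap
  have hj : InjHull.IsEssentialInj j := by
    refine isEssentialInj_iff.2 ⟨p.injective_algebraMap_quotient_residueField, fun x hx => ?_⟩
    obtain ⟨⟨a, s⟩, h⟩ := IsLocalization.surj (nonZeroDivisors (R ⧸ p)) x
    obtain ⟨s', hs'⟩ := Ideal.Quotient.mk_surjective (s : R ⧸ p)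
    have h2 : s' • x = j a := by
      rw [Algebra.smul_def, IsScalarTower.algebraMap_apply R (R ⧸ p) p.ResidueField,
        Ideal.Quotient.algebraMap_eq, hs', mul_comm]
      exact h
    refine ⟨s', ⟨a, h2.symm⟩, ?_⟩
    rw [h2]
    intro h0
    have hs0 : algebraMap (R ⧸ p) p.ResidueField s ≠ 0 := fun h0' =>
      nonZeroDivisors.coe_ne_zero s
        (p.injective_algebraMap_quotient_residueField (by rw [h0', map_zero]))
    exact hx ((mul_eq_zero.1 (h.trans h0)).resolve_right hs0)
  obtain ⟨g, hg⟩ := exists_extend hf.isInjective j hj.injective f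
  have hginj : Function.Injective g := injective_of_comp hj (hg ▸ hf.injective)
  refine ⟨g, ⟨isEssentialInj_iff.2 ⟨hginj, fun x hx => ?_⟩, hf.isInjective⟩⟩
  obtain ⟨r, ⟨m, hm⟩, hr0⟩ := exists_smul_mem_range hf.toIsEssentialInj hx
  exact ⟨r, ⟨j m, by rw [← LinearMap.comp_apply, hg, hm]⟩, hr0⟩

end Prime

/-- A nonzero module over a Noetherian ring contains some `R ⧸ p`. -/
theorem exists_prime_embedding [IsNoetherianRing R] [Nontrivial M] :
    ∃ (p : Ideal R) (_ : p.IsPrime) (φ : (R ⧸ p) →ₗ[R] M), Function.Injective φ := by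
  obtain ⟨p, hp⟩ := associatedPrimes.nonempty R M
  obtain ⟨hprime, φ, hφ⟩ := (isAssociatedPrime_iff_exists_injective_linearMap p M).1 hp
  exact ⟨p, hprime, φ, hφ⟩

theorem exists_hull_of_indecomposable [IsNoetherianRing R]
    (hE : InjHull.IsIndecomposable R E) (hinj : Module.Injective R E) :
    ∃ (p : Ideal R) (_ : p.IsPrime) (φ : (R ⧸ p) →ₗ[R] E), InjHull.IsInjectiveHull φ := by
  have := hE.1
  obtain ⟨p, hp, φ, hφ⟩ := exists_prime_embedding (R := R) (M := E)
  have : Nontrivial (R ⧸ p) := Ideal.Quotient.nontrivial_iff.2 hp.ne_top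
  refine ⟨p, hp, φ, ⟨⟨hφ, fun N hN => uniform_of_indecomposable hE hinj N _ hN ?_⟩, hinj⟩⟩
  intro h
  rw [LinearMap.range_eq_bot] at h
  obtain ⟨x, hx⟩ := exists_ne (0 : R ⧸ p)
  exact hx (hφ (by simp [h]))

open Classical in
theorem exists_isInternal_indecomposable [IsNoetherianRing R] {I : Type u} [AddCommGroup I]
    [Module R I] (hI : Module.Injective R I) :
    ∃ (ι : Type u) (E : ι → Submodule R I), DirectSum.IsInternal E ∧
      ∀ i, InjHull.IsIndecomposable R ↥(E i) ∧ Module.Injective R ↥(E i) := by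
  let P : Set (Set (Submodule R I)) := {S | sSupIndep S ∧
    ∀ A ∈ S, InjHull.IsIndecomposable R ↥A ∧ Module.Injective R ↥A}
  obtain ⟨S, -, hS⟩ := zorn_subset_nonempty P (fun c hc hchain _ =>
    ⟨⋃₀ c, ⟨iSupIndep_sUnion_of_directed hchain.directedOn
      fun a ha => (hc ha).1, fun A hA => by
        obtain ⟨T, hT, hAT⟩ := hA; exact (hc hT).2 A hAT⟩, fun s hs => Set.subset_sUnion_of_mem hs⟩)
    ∅ ⟨sSupIndep_empty, by simp⟩
  have hind : iSupIndep fun A : S => (A : Submodule R I) := (sSupIndep_iff _).1 hS.1.1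
  let F : S → Submodule R I := fun A => A
  have hinjmap : Function.Injective (DirectSum.coeLinearMap F) :=
    hind.dfinsupp_lsum_injective
  suffices htop : iSup F = ⊤ by
    exact ⟨S, F, by convert DirectSum.isInternal_submodule_of_iSupIndep_of_iSup_eq_top hind htop,
      fun A => hS.1.2 A A.2⟩
  have hsum : Module.Injective R (⨁ A : S, ↥(F A)) :=
    injective_directSum (fun A : S => ↥(F A)) fun A => (hS.1.2 A A.2).2
  obtain ⟨Q, hQ⟩ := exists_isCompl_range hsum _ hinjmap
  rw [DirectSum.range_coeLinearMap] at hQ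
  by_contra htop
  have hQ0 : Q ≠ ⊥ := by rintro rfl; exact htop (by simpa using hQ.sup_eq_top)
  have : Nontrivial Q := Submodule.nontrivial_iff_ne_bot.2 hQ0
  obtain ⟨p, hp, φ, hφ⟩ := exists_prime_embedding (R := R) (M := Q)
  obtain ⟨A, g, hg, -⟩ := exists_hull_in (injective_of_isCompl hI hQ.symm) hφ
  let A' : Submodule R I := A.map Q.subtype
  let e : A ≃ₗ[R] A' := Submodule.equivMapOfInjective Q.subtype Q.subtype_injective A
  have hg' := hull_equiv_comp hg e
  have hA'Q : A' ≤ Q := Submodule.map_subtype_le _ _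
  have hA'0 : A' ≠ ⊥ := Submodule.nontrivial_iff_ne_bot.1
    (hull_prime_nontrivial hg'.toIsEssentialInj)
  have hdis : Disjoint A' (sSup S) := by
    rw [sSup_eq_iSup']
    exact (hQ.disjoint.symm).mono_left hA'Q
  have hnot : A' ∉ S := fun h =>
    hA'0 (disjoint_self.1 (hdis.mono_right (le_sSup h)))
  refine hnot (hS.2 (y := insert A' S) ⟨?_, ?_⟩ (Set.subset_insert _ _) (Set.mem_insert _ _))
  · intro B hB
    rcases Set.mem_insert_iff.1 hB with rfl | hBS
    · rw [Set.insert_sdiff_self_of_notMem hnot]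
      exact hdis
    · have hne : B ≠ A' := fun h => hnot (h ▸ hBS)
      rw [Set.insert_sdiff_of_notMem _ (by simpa using hne.symm), sSup_insert]
      exact (Disjoint.disjoint_sup_left_of_disjoint_sup_right (hS.1.1 hBS).symm
        (hdis.mono_right (sup_le (sSup_le_sSup Set.sdiff_subset) (le_sSup hBS)))).symm
  · rintro B (rfl | hB)
    · exact ⟨indecomposable_hull_prime hg'.toIsEssentialInj, hg'.isInjective⟩
    · exact hS.1.2 B hB

end Groth.Agent.InjHull18
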