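import Groth.Prelude.Def_Wider
import Mathlib.Algebra.Category.ModuleCat.EnoughInjectives
import Mathlib.Algebra.Category.ModuleCat.Injective

/-!
# Injective hulls: essential extensions, existence, uniqueness
-/

universe u v w

namespace Groth.Agent.InjHull18

variable {R : Type u} [CommRing R]

section Essential

variable {M : Type v} [AddCommGroup M] [Module R M]
variable {E : Type v} [AddCommGroup E] [Module R E]
variable {F : Type v} [AddCommGroup F] [Module R F]

theorem ess_of_forall_smul {f : M →ₗ[R] E}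
    (h : ∀ x : E, x ≠ 0 → ∃ r : R, r • x ∈ LinearMap.range f ∧ r • x ≠ 0)
    (N : Submodule R E) (hN : N ≠ ⊥) : N ⊓ LinearMap.range f ≠ ⊥ := by
  obtain ⟨x, hxN, hx⟩ := (Submodule.ne_bot_iff _).1 hN
  obtain ⟨r, hr, hr0⟩ := h x hx
  exact (Submodule.ne_bot_iff _).2 ⟨r • x, ⟨N.smul_mem r hxN, hr⟩, hr0⟩

theorem exists_smul_mem_range {f : M →ₗ[R] E} (hf : InjHull.IsEssentialInj f) {x : E}
    (hx : x ≠ 0) : ∃ r : R, r • x ∈ LinearMap.range f ∧ r • x ≠ 0 := by
  have hN : Submodule.span R {x} ≠ ⊥ := by simpa [Submodule.span_singleton_eq_bot] using hx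
  obtain ⟨y, hy, hy0⟩ := (Submodule.ne_bot_iff _).1 (hf.essential _ hN)
  obtain ⟨r, rfl⟩ := Submodule.mem_span_singleton.1 hy.1
  exact ⟨r, hy.2, hy0⟩

/-- An essential injection, element form. -/
theorem isEssentialInj_iff {f : M →ₗ[R] E} :
    InjHull.IsEssentialInj f ↔ Function.Injective f ∧
      ∀ x : E, x ≠ 0 → ∃ r : R, r • x ∈ LinearMap.range f ∧ r • x ≠ 0 :=
  ⟨fun h => ⟨h.injective, fun _ hx => exists_smul_mem_range h hx⟩,
    fun h => ⟨h.1, ess_of_forall_smul h.2⟩⟩

theorem eq_bot_of_inf_range {f : M →ₗ[R] E} (hf : InjHull.IsEssentialInj f) {N : Submodule R E}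
    (h : N ⊓ LinearMap.range f = ⊥) : N = ⊥ := by
  by_contra hN
  exact hf.essential N hN h

theorem injective_of_comp {f : M →ₗ[R] E} (hf : InjHull.IsEssentialInj f) {g : E →ₗ[R] F}
    (hg : Function.Injective (g ∘ₗ f)) : Function.Injective g := by
  rw [← LinearMap.ker_eq_bot]
  refine eq_bot_of_inf_range hf ((Submodule.eq_bot_iff _).2 ?_)
  rintro x ⟨hx, m, rfl⟩
  have hm : m = 0 := hg (show g (f m) = g (f 0) by simpa using hx)
  simp [hm]

theorem essentialInj_comp {f : M →ₗ[R] E} {g : E →ₗ[R] F} (hf : InjHull.IsEssentialInj f)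
    (hg : InjHull.IsEssentialInj g) : InjHull.IsEssentialInj (g ∘ₗ f) := by
  rw [isEssentialInj_iff]
  refine ⟨hg.injective.comp hf.injective, fun x hx => ?_⟩
  obtain ⟨r, ⟨e, he⟩, hr0⟩ := exists_smul_mem_range hg hx
  have he0 : e ≠ 0 := by rintro rfl; exact hr0 (by simpa using he.symm)
  obtain ⟨s, ⟨m, hm⟩, hs0⟩ := exists_smul_mem_range hf he0
  refine ⟨s * r, ⟨m, ?_⟩, fun h0 => hs0 (hg.injective ?_)⟩
  · rw [LinearMap.comp_apply, hm, map_smul, he, mul_smul]
  · rw [map_smul, he, ← mul_smul, h0, map_zero]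

theorem essentialInj_equiv_comp {f : M →ₗ[R] E} (hf : InjHull.IsEssentialInj f) (e : E ≃ₗ[R] F) :
    InjHull.IsEssentialInj (e.toLinearMap ∘ₗ f) :=
  essentialInj_comp hf ((isEssentialInj_iff).2 ⟨e.injective, fun x hx =>
    ⟨1, ⟨e.symm x, by simp⟩, by simpa using hx⟩⟩)

end Essential

section Injective

variable {M : Type u} [AddCommGroup M] [Module R M]
variable {E : Type u} [AddCommGroup E] [Module R E]
variable {I : Type u} [AddCommGroup I] [Module R I]

/-- A retract of an injective module is injective. -/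
theorem injective_of_retract (hI : Module.Injective R I) (s : E →ₗ[R] I) (r : I →ₗ[R] E)
    (h : ∀ x, r (s x) = x) : Module.Injective R E where
  out X Y _ _ _ _ f hf g := by
    obtain ⟨k, hk⟩ := hI.out f hf (s ∘ₗ g)
    exact ⟨r ∘ₗ k, fun x => by simp [hk x, h]⟩

theorem injective_of_equiv (hI : Module.Injective R I) (e : E ≃ₗ[R] I) : Module.Injective R E :=
  injective_of_retract hI e.toLinearMap e.symm.toLinearMap e.symm_apply_apply

theorem exists_extend {X : Type u} [AddCommGroup X] [Module R X] {Y : Type u} [AddCommGroup Y]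
    [Module R Y] (hI : Module.Injective R I) (f : X →ₗ[R] Y) (hf : Function.Injective f)
    (g : X →ₗ[R] I) : ∃ h : Y →ₗ[R] I, h ∘ₗ f = g := by
  obtain ⟨h, hh⟩ := hI.out f hf g
  exact ⟨h, LinearMap.ext hh⟩

/-- An injective module included in a larger module is a direct summand. -/
theorem exists_isCompl_range (hE : Module.Injective R E) (α : E →ₗ[R] I)
    (hα : Function.Injective α) : ∃ I' : Submodule R I, IsCompl (LinearMap.range α) I' := by
  obtain ⟨r, hr⟩ := hE.out α hα LinearMap.id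
  refine ⟨LinearMap.ker r, IsCompl.of_eq ((Submodule.eq_bot_iff _).2 ?_) ?_⟩
  · rintro x ⟨⟨e, rfl⟩, hx⟩
    have : e = 0 := by simpa [hr] using hx
    simp [this]
  · refine Submodule.eq_top_iff'.2 fun x => Submodule.mem_sup.2
      ⟨α (r x), ⟨_, rfl⟩, x - α (r x), ?_, by abel⟩
    simp [hr]

theorem range_eq_top_of_essentialInj (hE : Module.Injective R E) {α : E →ₗ[R] I}
    (h : InjHull.IsEssentialInj α) : LinearMap.range α = ⊤ := by
  obtain ⟨I', hI'⟩ := exists_isCompl_range hE α h.injective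
  have : I' = ⊥ := eq_bot_of_inf_range h (by rw [inf_comm]; exact hI'.inf_eq_bot)
  simpa [this] using hI'.sup_eq_top

theorem injective_of_isCompl (hI : Module.Injective R I) {P Q : Submodule R I}
    (h : IsCompl P Q) : Module.Injective R P :=
  injective_of_retract hI P.subtype (P.projectionOnto Q h)
    fun x => Submodule.projectionOnto_apply_left h x

theorem exists_isCompl_of_injective {P : Submodule R I} (hP : Module.Injective R P) :
    ∃ Q : Submodule R I, IsCompl P Q := by
  simpa using exists_isCompl_range hP P.subtype P.subtype_injective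

/-- A submodule of an injective module without proper essential extensions inside it is
injective. -/
theorem injective_of_no_essential (hI : Module.Injective R I) (P : Submodule R I)
    (hmax : ∀ P' : Submodule R I, P ≤ P' →
      (∀ N : Submodule R I, N ≤ P' → N ≠ ⊥ → N ⊓ P ≠ ⊥) → P' = P) :
    Module.Injective R P := by
  obtain ⟨C, -, hC⟩ := zorn_le_nonempty₀ {C : Submodule R I | C ⊓ P = ⊥}
    (fun c hc hchain y hy => ⟨sSup c, by
      refine (Submodule.eq_bot_iff _).2 ?_
      rintro x ⟨hx, hxP⟩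
      obtain ⟨C, hC, hxC⟩ := (Submodule.mem_sSup_of_directed ⟨y, hy⟩ hchain.directedOn).1 hx
      exact (Submodule.eq_bot_iff _).1 (hc hC) x ⟨hxC, hxP⟩, fun z hz => le_sSup hz⟩)
    ⊥ (bot_inf_eq _)
  let φ : P →ₗ[R] I ⧸ C := C.mkQ ∘ₗ P.subtype
  have hker : ∀ x : I, x ∈ C → x ∈ P → x = 0 := fun x h1 h2 =>
    (Submodule.eq_bot_iff _).1 hC.1 x ⟨h1, h2⟩
  have hφ : Function.Injective φ := by
    rw [← LinearMap.ker_eq_bot, Submodule.eq_bot_iff]
    intro x hx
    exact Subtype.ext (hker _ ((Submodule.Quotient.mk_eq_zero C).1 hx) x.2)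
  have hess : InjHull.IsEssentialInj φ := by
    refine ⟨hφ, fun N hN hbot => hN ?_⟩
    have hle : C ≤ N.comap C.mkQ := fun x hx => by
      simp [(Submodule.Quotient.mk_eq_zero C).2 hx]
    have : N.comap C.mkQ ⊓ P = ⊥ := by
      refine (Submodule.eq_bot_iff _).2 ?_
      rintro x ⟨hxN, hxP⟩
      have hm : C.mkQ x ∈ N ⊓ LinearMap.range φ := ⟨hxN, ⟨x, hxP⟩, rfl⟩
      rw [hbot, Submodule.mem_bot] at hm
      exact hker _ ((Submodule.Quotient.mk_eq_zero C).1 hm) hxP
    have heq : N.comap C.mkQ ≤ C := hC.2 this hle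
    refine (Submodule.eq_bot_iff _).2 fun q hq => ?_
    obtain ⟨x, rfl⟩ := Submodule.mkQ_surjective C q
    exact (Submodule.Quotient.mk_eq_zero C).2 (heq hq)
  obtain ⟨h, hh⟩ := exists_extend hI φ hφ P.subtype
  have hinj : Function.Injective h := injective_of_comp hess (hh ▸ P.subtype_injective)
  have hPr : P ≤ LinearMap.range h := fun x hx =>
    ⟨φ ⟨x, hx⟩, LinearMap.congr_fun hh ⟨x, hx⟩⟩
  have hrange : LinearMap.range h = P := by
    refine hmax _ hPr fun N hN hN0 hbot => hN0 ?_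
    have h1 : N.comap h = ⊥ := by
      refine eq_bot_of_inf_range hess ((Submodule.eq_bot_iff _).2 ?_)
      rintro q ⟨hq, p, rfl⟩
      have hp : h (φ p) ∈ N ⊓ P := ⟨hq, by
        rw [← LinearMap.comp_apply, hh]; exact p.2⟩
      rw [hbot, Submodule.mem_bot] at hp
      exact hinj (by rw [hp, map_zero])
    refine (Submodule.eq_bot_iff _).2 fun x hx => ?_
    obtain ⟨q, rfl⟩ := hN hx
    rw [(Submodule.eq_bot_iff _).1 h1 q hx, map_zero]
  let r : I →ₗ[R] P :=
    (h ∘ₗ C.mkQ).codRestrict P fun x => hrange.le ⟨C.mkQ x, rfl⟩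
  exact injective_of_retract hI P.subtype r fun x => Subtype.ext (LinearMap.congr_fun hh x)

/-- Every submodule of an injective module has an injective essential closure in it. -/
theorem exists_closure (hI : Module.Injective R I) (P : Submodule R I) :
    ∃ E : Submodule R I, Module.Injective R E ∧ ∃ h : P ≤ E,
      InjHull.IsEssentialInj (Submodule.inclusion h) := by
  let S : Set (Submodule R I) :=
    {E | P ≤ E ∧ ∀ x ∈ E, x ≠ 0 → ∃ r : R, r • x ∈ P ∧ r • x ≠ 0}
  obtain ⟨E, -, hE⟩ := zorn_le_nonempty₀ S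
    (fun c hc hchain y hy => ⟨sSup c, ⟨le_trans (hc hy).1 (le_sSup hy), fun x hx hx0 => by
      obtain ⟨C, hC, hxC⟩ := (Submodule.mem_sSup_of_directed ⟨y, hy⟩ hchain.directedOn).1 hx
      exact (hc hC).2 x hxC hx0⟩, fun z hz => le_sSup hz⟩)
    P ⟨le_rfl, fun x hx hx0 => ⟨1, by simpa using hx, by simpa using hx0⟩⟩
  refine ⟨E, injective_of_no_essential hI E fun P' hle hess => ?_, hE.1.1, ?_⟩
  · refine le_antisymm (hE.2 ⟨hE.1.1.trans hle, fun x hx hx0 => ?_⟩ hle) hle
    obtain ⟨y, hy, hy0⟩ := (Submodule.ne_bot_iff _).1 (hess (Submodule.span R {x})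
      ((Submodule.span_singleton_le_iff_mem _ _).2 hx)
      (by simpa [Submodule.span_singleton_eq_bot] using hx0))
    obtain ⟨a, rfl⟩ := Submodule.mem_span_singleton.1 hy.1
    obtain ⟨b, hb, hb0⟩ := hE.1.2 _ hy.2 hy0
    exact ⟨b * a, by rwa [mul_smul], by rwa [mul_smul]⟩
  · rw [isEssentialInj_iff]
    refine ⟨Submodule.inclusion_injective _, fun x hx => ?_⟩
    obtain ⟨r, hr, hr0⟩ := hE.1.2 _ x.2 fun h => hx (Subtype.ext h)
    exact ⟨r, ⟨⟨_, hr⟩, rfl⟩, fun h => hr0 (congrArg Subtype.val h)⟩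

theorem exists_hull_in {f : M →ₗ[R] I} (hI : Module.Injective R I) (hf : Function.Injective f) :
    ∃ (E : Submodule R I) (g : M →ₗ[R] E), InjHull.IsInjectiveHull g ∧ E.subtype ∘ₗ g = f := by
  obtain ⟨E, hE, hle, hess⟩ := exists_closure hI (LinearMap.range f)
  have he : InjHull.IsEssentialInj (LinearEquiv.ofInjective f hf).toLinearMap :=
    isEssentialInj_iff.2 ⟨(LinearEquiv.ofInjective f hf).injective, fun x hx =>
      ⟨1, ⟨(LinearEquiv.ofInjective f hf).symm x, by simp⟩, by simpa using hx⟩⟩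
  exact ⟨E, _, ⟨essentialInj_comp he hess, hE⟩, rfl⟩

variable (R) in
theorem exists_injective_embedding (M : Type u) [AddCommGroup M] [Module R M] :
    ∃ (I : Type u) (_ : AddCommGroup I) (_ : Module R I) (f : M →ₗ[R] I),
      Module.Injective R I ∧ Function.Injective f := by
  open CategoryTheory in
  exact ⟨(Injective.under (ModuleCat.of R M) : ModuleCat.{u} R), inferInstance, inferInstance,
    (Injective.ι (ModuleCat.of R M)).hom,
    Module.injective_module_of_injective_object R _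
      (inj := inferInstanceAs (Injective (Injective.under (ModuleCat.of R M)))),
    (ModuleCat.mono_iff_injective _).1 inferInstance⟩

variable (R) in
theorem exists_hull (M : Type u) [AddCommGroup M] [Module R M] :
    ∃ (E : Type u) (_ : AddCommGroup E) (_ : Module R E) (f : M →ₗ[R] E),
      InjHull.IsInjectiveHull f := by
  obtain ⟨I, _, _, f, hI, hf⟩ := exists_injective_embedding R M
  obtain ⟨E, g, hg, -⟩ := exists_hull_in hI hf
  exact ⟨E, inferInstance, inferInstance, g, hg⟩

theorem hull_extend {f : M →ₗ[R] E} (hf : InjHull.IsInjectiveHull f) (hI : Module.Injective R I)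
    (i : M →ₗ[R] I) (hi : Function.Injective i) :
    ∃ α : E →ₗ[R] I, Function.Injective α ∧ α ∘ₗ f = i := by
  obtain ⟨α, hα⟩ := exists_extend hI f hf.injective i
  exact ⟨α, injective_of_comp hf.toIsEssentialInj (hα ▸ hi), hα⟩

theorem hull_unique {F : Type u} [AddCommGroup F] [Module R F] {f : M →ₗ[R] E} {g : M →ₗ[R] F}
    (hf : InjHull.IsInjectiveHull f) (hg : InjHull.IsInjectiveHull g) :
    ∃ e : E ≃ₗ[R] F, e.toLinearMap ∘ₗ f = g := by
  obtain ⟨α, hinj, hα⟩ := hull_extend hf hg.isInjective g hg.injective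
  have hess : InjHull.IsEssentialInj α := by
    refine isEssentialInj_iff.2 ⟨hinj, fun x hx => ?_⟩
    obtain ⟨r, ⟨m, hm⟩, hr0⟩ := exists_smul_mem_range hg.toIsEssentialInj hx
    exact ⟨r, ⟨f m, by rw [← LinearMap.comp_apply, hα, hm]⟩, hr0⟩
  exact ⟨LinearEquiv.ofBijective α
    ⟨hinj, LinearMap.range_eq_top.1 (range_eq_top_of_essentialInj hf.isInjective hess)⟩, hα⟩

theorem hull_equiv_comp {F : Type u} [AddCommGroup F] [Module R F] {f : M →ₗ[R] E}
    (hf : InjHull.IsInjectiveHull f) (e : E ≃ₗ[R] F) :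
    InjHull.IsInjectiveHull (e.toLinearMap ∘ₗ f) :=
  ⟨essentialInj_equiv_comp hf.toIsEssentialInj e, injective_of_equiv hf.isInjective e.symm⟩

end Injective

end Groth.Agent.InjHull18
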