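import Groth.Agent.InjHull18.Basic
import Mathlib.RingTheory.Filtration
import Mathlib.RingTheory.Noetherian.Basic

/-!
# Power torsion modules, sums of injectives over Noetherian rings
-/

universe u v

open scoped DirectSum

namespace Groth.Agent.InjHull18

variable {R : Type u} [CommRing R]

/-- Bass: direct sums of injectives over a Noetherian ring are injective. -/
theorem injective_directSum [IsNoetherianRing R] {ι : Type u} (E : ι → Type u)
    [∀ i, AddCommGroup (E i)] [∀ i, Module R (E i)] (hE : ∀ i, Module.Injective R (E i)) :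
    Module.Injective R (⨁ i, E i) := by
  classical
  refine Module.Baer.injective fun I g => ?_
  obtain ⟨t, ht⟩ := IsNoetherian.noetherian (⊤ : Submodule R I)
  let s : Finset ι := t.biUnion fun a => DFinsupp.support (g a)
  have hext : ∀ i, ∃ h : R →ₗ[R] E i, ∀ x (hx : x ∈ I), h x = g ⟨x, hx⟩ i := fun i =>
    Module.Baer.of_injective (hE i) I (DirectSum.component R ι E i ∘ₗ g)
  choose h hh using hext
  have hsupp : ∀ i ∉ s, DirectSum.component R ι E i ∘ₗ g = 0 := by
    intro i hi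
    refine LinearMap.ext_on ht ?_
    intro a ha
    by_contra hne
    exact hi (Finset.mem_biUnion.2 ⟨a, ha, DFinsupp.mem_support_iff.2 hne⟩)
  refine ⟨∑ i ∈ s, DirectSum.lof R ι E i ∘ₗ h i, fun x hx => DirectSum.ext_component R fun j => ?_⟩
  simp only [LinearMap.sum_apply, map_sum, LinearMap.comp_apply]
  by_cases hj : j ∈ s
  · rw [Finset.sum_eq_single j]
    · rw [DirectSum.component.lof_self]; exact hh j x hx
    · intro b _ hb
      rw [DirectSum.component.of, dif_neg hb]
    · exact fun h => (h hj).elim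
  · rw [Finset.sum_eq_zero]
    · exact (LinearMap.congr_fun (hsupp j hj) ⟨x, hx⟩).symm
    · intro b hb
      rw [DirectSum.component.of, dif_neg]
      rintro rfl
      exact hj hb

section Torsion

variable {M : Type v} [AddCommGroup M] [Module R M]

theorem mem_iSup_torsion {J : Ideal R} {x : M} :
    x ∈ (⨆ n : ℕ, Submodule.torsionBySet R M ((J ^ n : Ideal R) : Set R)) ↔
      ∃ n : ℕ, ∀ a ∈ J ^ n, a • x = 0 := by
  rw [Submodule.mem_iSup_of_directed]
  · simp only [Submodule.mem_torsionBySet_iff, Subtype.forall, SetLike.mem_coe]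
  · exact (show Monotone fun n : ℕ => Submodule.torsionBySet R M ((J ^ n : Ideal R) : Set R)
      from fun a b hab => Submodule.torsionBySet_le_torsionBySet_of_subset
        (Ideal.pow_le_pow_right hab)).directed_le

theorem isPowerTorsion_iff {J : Ideal R} :
    LocCoh.IsPowerTorsion J M ↔
      (⨆ n : ℕ, Submodule.torsionBySet R M ((J ^ n : Ideal R) : Set R)) = ⊤ := by
  simp only [LocCoh.IsPowerTorsion, Submodule.eq_top_iff', mem_iSup_torsion]

theorem isPowerTorsion_gamma (J : Ideal R) :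
    LocCoh.IsPowerTorsion J
      ↥(⨆ n : ℕ, Submodule.torsionBySet R M ((J ^ n : Ideal R) : Set R)) := fun x => by
  obtain ⟨n, hn⟩ := mem_iSup_torsion.1 x.2
  exact ⟨n, fun a ha => Subtype.ext (hn a ha)⟩

theorem isPowerTorsion_of_injective_map {N : Type v} [AddCommGroup N] [Module R N] {J : Ideal R}
    (h : LocCoh.IsPowerTorsion J M) (f : N →ₗ[R] M) (hf : Function.Injective f) :
    LocCoh.IsPowerTorsion J N := fun x => by
  obtain ⟨n, hn⟩ := h (f x)
  exact ⟨n, fun a ha => hf (by rw [map_smul, hn a ha, map_zero])⟩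

theorem isPowerTorsion_of_surjective_map {N : Type v} [AddCommGroup N] [Module R N] {J : Ideal R}
    (h : LocCoh.IsPowerTorsion J M) (f : M →ₗ[R] N) (hf : Function.Surjective f) :
    LocCoh.IsPowerTorsion J N := fun x => by
  obtain ⟨y, rfl⟩ := hf x
  obtain ⟨n, hn⟩ := h y
  exact ⟨n, fun a ha => by rw [← map_smul, hn a ha, map_zero]⟩

/-- A finitely generated power torsion module is killed by a power of the ideal. -/
theorem exists_pow_smul_eq_zero [Module.Finite R M] {J : Ideal R}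
    (h : LocCoh.IsPowerTorsion J M) : ∃ n : ℕ, ∀ a ∈ J ^ n, ∀ x : M, a • x = 0 := by
  classical
  obtain ⟨t, ht⟩ := Module.Finite.fg_top (R := R) (M := M)
  choose n hn using fun x : M => h x
  refine ⟨t.sup n, fun a ha x => ?_⟩
  have : LinearMap.lsmul R M a = 0 := LinearMap.ext_on ht fun y hy =>
    hn y a (Ideal.pow_le_pow_right (Finset.le_sup hy) ha)
  simpa using LinearMap.congr_fun this x

end Torsion

variable [IsNoetherianRing R] {H : Type u} [AddCommGroup H] [Module R H] {J : Ideal R}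

/-- A power torsion module into which maps from submodules of the `R ⧸ J^m` extend is
injective. -/
theorem injective_of_powerTorsion (hH : LocCoh.IsPowerTorsion J H)
    (hext : ∀ (m : ℕ) (N : Submodule R (R ⧸ J ^ m)) (g : N →ₗ[R] H),
      ∃ g' : (R ⧸ J ^ m) →ₗ[R] H, g' ∘ₗ N.subtype = g) :
    Module.Injective R H := by
  refine Module.Baer.injective fun 𝔞 g => ?_
  have : Module.Finite R 𝔞 := Module.Finite.iff_fg.2 (IsNoetherian.noetherian 𝔞)
  obtain ⟨n, hn⟩ := exists_pow_smul_eq_zero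
    (isPowerTorsion_of_injective_map hH _ (LinearMap.range g).subtype_injective)
  obtain ⟨k, hk⟩ := Ideal.exists_pow_inf_eq_pow_smul J (𝔞 : Submodule R R)
  have hker : ∀ x : 𝔞, (x : R) ∈ J ^ n • (𝔞 : Submodule R R) → g x = 0 := by
    suffices H0 : ∀ y ∈ J ^ n • (𝔞 : Submodule R R), ∃ hy : y ∈ 𝔞, g ⟨y, hy⟩ = 0 from
      fun x hx => (H0 _ hx).2
    intro y hy
    induction hy using Submodule.smul_induction_on' with
    | smul a ha z hz =>
      refine ⟨𝔞.smul_mem a hz, ?_⟩
      have h0 := congrArg Subtype.val (hn a ha ⟨g ⟨z, hz⟩, _, rfl⟩)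
      exact (g.map_smul a ⟨z, hz⟩).trans h0
    | add a _ b _ h1 h2 =>
      refine ⟨add_mem h1.1 h2.1, ?_⟩
      have : (⟨a + b, add_mem h1.1 h2.1⟩ : 𝔞) = ⟨a, h1.1⟩ + ⟨b, h2.1⟩ := rfl
      rw [this, map_add, h1.2, h2.2, add_zero]
  let φ : 𝔞 →ₗ[R] R ⧸ J ^ (n + k) := Submodule.mkQ (J ^ (n + k)) ∘ₗ 𝔞.subtype
  have hle : LinearMap.ker φ ≤ LinearMap.ker g := by
    intro x hx
    refine hker x ?_
    have h1 : (x : R) ∈ J ^ (n + k) • (⊤ : Submodule R R) ⊓ 𝔞 :=
      ⟨by simpa [Ideal.mul_top] using (Submodule.Quotient.mk_eq_zero _).1 hx, x.2⟩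
    rw [hk (n + k) (Nat.le_add_left _ _), Nat.add_sub_cancel] at h1
    exact Submodule.smul_mono le_rfl inf_le_right h1
  let g₀ : LinearMap.range φ →ₗ[R] H :=
    (LinearMap.ker φ).liftQ g hle ∘ₗ φ.quotKerEquivRange.symm.toLinearMap
  obtain ⟨g', hg'⟩ := hext _ _ g₀
  refine ⟨g' ∘ₗ Submodule.mkQ _, fun x hx => ?_⟩
  have h1 := LinearMap.congr_fun hg' ⟨φ ⟨x, hx⟩, ⟨x, hx⟩, rfl⟩
  have h2 : φ.quotKerEquivRange.symm ⟨φ ⟨x, hx⟩, ⟨x, hx⟩, rfl⟩ =
      (LinearMap.ker φ).mkQ ⟨x, hx⟩ := φ.quotKerEquivRange_symm_apply_image _ _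
  refine h1.trans ?_
  show (LinearMap.ker φ).liftQ g hle (φ.quotKerEquivRange.symm _) = g ⟨x, hx⟩
  rw [h2]
  rfl

/-- The power torsion part of an injective module over a Noetherian ring is injective. -/
theorem injective_gamma (hH : Module.Injective R H) (J : Ideal R) :
    Module.Injective R ↥(⨆ n : ℕ, Submodule.torsionBySet R H ((J ^ n : Ideal R) : Set R)) := by
  refine injective_of_powerTorsion (isPowerTorsion_gamma J) fun m N g => ?_
  obtain ⟨g', hg'⟩ := exists_extend hH N.subtype N.subtype_injective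
    ((Submodule.subtype _) ∘ₗ g)
  refine ⟨g'.codRestrict _ fun x => mem_iSup_torsion.2 ⟨m, fun a ha => ?_⟩, ?_⟩
  · rw [← map_smul]
    obtain ⟨y, rfl⟩ := Ideal.Quotient.mk_surjective x
    have : a • Ideal.Quotient.mk (J ^ m) y = 0 :=
      (Submodule.Quotient.mk_smul (J ^ m : Ideal R) a y).symm.trans
        ((Submodule.Quotient.mk_eq_zero _).2 (Ideal.mul_mem_right _ _ ha))
    rw [this, map_zero]
  · exact LinearMap.ext fun x => Subtype.ext (LinearMap.congr_fun hg' x)

/-- An injective hull of a power torsion module is power torsion. -/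
theorem hull_isPowerTorsion {M E : Type u} [AddCommGroup M] [Module R M] [AddCommGroup E]
    [Module R E] {f : M →ₗ[R] E} (hf : InjHull.IsInjectiveHull f)
    (hM : LocCoh.IsPowerTorsion J M) : LocCoh.IsPowerTorsion J E := by
  rw [isPowerTorsion_iff]
  obtain ⟨Q, hQ⟩ := exists_isCompl_of_injective (injective_gamma hf.isInjective J)
  have hQ0 : Q = ⊥ := by
    refine eq_bot_of_inf_range hf.toIsEssentialInj ((Submodule.eq_bot_iff _).2 ?_)
    rintro x ⟨hxQ, m, rfl⟩
    obtain ⟨n, hn⟩ := hM m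
    exact (Submodule.eq_bot_iff _).1 hQ.inf_eq_bot (f m)
      ⟨mem_iSup_torsion.2 ⟨n, fun a ha => by rw [← map_smul, hn a ha, map_zero]⟩, hxQ⟩
  simpa [hQ0] using hQ.sup_eq_top

end Groth.Agent.InjHull18
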