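import Groth.Agent.InjHull18.Indec
import Mathlib.RingTheory.LocalProperties.Injective
import Mathlib.Algebra.Module.LocalizedModule.Submodule

/-!
# Injective modules and localization
-/

universe u v

namespace Groth.Agent.InjHull18

variable {R : Type u} [CommRing R]

/-- Over a Noetherian ring, the annihilators of the multiples `t • x`, `t ∈ S`, stabilise. -/
theorem exists_stable_smul [IsNoetherianRing R] {M : Type v} [AddCommGroup M] [Module R M]
    (S : Submonoid R) (x : M) :
    ∃ t ∈ S, ∀ (u : R) (a : R), u ∈ S → u • a • t • x = 0 → a • t • x = 0 := by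
  obtain ⟨I, ⟨t, ht, rfl⟩, hI⟩ := set_has_maximal_iff_noetherian.2
    (inferInstance : IsNoetherian R R)
    {I : Ideal R | ∃ t ∈ S, I = LinearMap.ker (LinearMap.toSpanSingleton R M (t • x))}
    ⟨_, 1, S.one_mem, rfl⟩
  refine ⟨t, ht, fun u a hu ha => ?_⟩
  have hle : LinearMap.ker (LinearMap.toSpanSingleton R M (t • x)) ≤
      LinearMap.ker (LinearMap.toSpanSingleton R M ((u * t) • x)) := by
    intro b hb
    simp only [LinearMap.mem_ker, LinearMap.toSpanSingleton_apply] at hb ⊢
    rw [mul_smul, smul_comm, hb, smul_zero]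
  have hmem : a ∈ LinearMap.ker (LinearMap.toSpanSingleton R M ((u * t) • x)) := by
    simp only [LinearMap.mem_ker, LinearMap.toSpanSingleton_apply]
    rwa [mul_smul, smul_comm]
  rw [← eq_of_le_of_not_lt hle (hI _ ⟨u * t, S.mul_mem hu ht, rfl⟩)] at hmem
  exact hmem

theorem localized_essential [IsNoetherianRing R] {M : Type v} [AddCommGroup M] [Module R M]
    (S : Submonoid R) (N : Submodule R M)
    (hN : ∀ N' : Submodule R M, N' ≠ ⊥ → N' ⊓ N ≠ ⊥)
    (L : Submodule (Localization S) (LocalizedModule S M)) (hL : L ≠ ⊥) :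
    L ⊓ Submodule.localized S N ≠ ⊥ := by
  obtain ⟨y, hy, hy0⟩ := (Submodule.ne_bot_iff _).1 hL
  obtain ⟨⟨x, s⟩, hxs⟩ := IsLocalizedModule.surj S (LocalizedModule.mkLinearMap S M) y
  simp only [Submonoid.smul_def] at hxs
  obtain ⟨t, ht, hstab⟩ := exists_stable_smul S x
  let 𝔞 : Ideal R := N.comap (LinearMap.toSpanSingleton R M (t • x))
  obtain ⟨σ, hσ⟩ := IsNoetherian.noetherian 𝔞
  by_cases hex : ∃ a ∈ 𝔞, LocalizedModule.mkLinearMap S M (a • t • x) ≠ 0
  · obtain ⟨a, ha, ha0⟩ := hex
    refine (Submodule.ne_bot_iff _).2 ⟨_, ⟨?_, ⟨_, ha, 1, rfl⟩⟩, by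
      rw [IsLocalizedModule.mk'_one]; exact ha0⟩
    have : IsLocalizedModule.mk' (LocalizedModule.mkLinearMap S M)
        ((LinearMap.toSpanSingleton R M (t • x)) a) (1 : S) = (a * t * s) • y := by
      rw [IsLocalizedModule.mk'_one, LinearMap.toSpanSingleton_apply, map_smul, map_smul, ← hxs,
        smul_smul, smul_smul, mul_assoc]
    rw [this]
    exact L.smul_of_tower_mem _ hy
  · exfalso
    push Not at hex
    have hzero : LinearMap.toSpanSingleton R M (t • x) ∘ₗ 𝔞.subtype = 0 := by
      apply LinearMap.ext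
      rintro ⟨a, ha⟩
      obtain ⟨u, hu⟩ := (IsLocalizedModule.eq_zero_iff S _).1 (hex a ha)
      exact hstab u a u.2 hu
    by_cases hx0 : t • x = 0
    · refine hy0 ?_
      have h1 : ((t * (s : R)) • y : LocalizedModule S M) = 0 := by
        rw [mul_smul, hxs, ← map_smul, hx0, map_zero]
      have hu : IsUnit (algebraMap R (Module.End R (LocalizedModule S M)) (t * s)) :=
        IsLocalizedModule.map_units (LocalizedModule.mkLinearMap S M) ⟨t * s, S.mul_mem ht s.2⟩
      exact ((Module.End.isUnit_iff _).1 hu).1 (by simp only [Module.algebraMap_end_apply, smul_zero]; exact h1)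
    · obtain ⟨z, hz, hz0⟩ := (Submodule.ne_bot_iff _).1 (hN (Submodule.span R {t • x})
        (by simpa [Submodule.span_singleton_eq_bot] using hx0))
      obtain ⟨a, rfl⟩ := Submodule.mem_span_singleton.1 hz.1
      exact hz0 (LinearMap.congr_fun hzero ⟨a, hz.2⟩)

theorem localizedModule_map_hull [IsNoetherianRing R] (S : Submonoid R) {M E : Type u}
    [AddCommGroup M] [Module R M] [AddCommGroup E] [Module R E] {f : M →ₗ[R] E}
    (hf : InjHull.IsInjectiveHull f) : InjHull.IsInjectiveHull (LocalizedModule.map S f) := by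
  have := hf.isInjective
  refine ⟨⟨LocalizedModule.map_injective S f hf.injective, fun L hL => ?_⟩,
    Module.injective_of_isLocalizedModule S (LocalizedModule.mkLinearMap S E)⟩
  obtain ⟨y, ⟨hyL, hyN⟩, hy0⟩ := (Submodule.ne_bot_iff _).1
    (localized_essential S (LinearMap.range f) hf.essential L hL)
  refine (Submodule.ne_bot_iff _).2 ⟨y, ⟨hyL, ?_⟩, hy0⟩
  obtain ⟨e, ⟨m, rfl⟩, s, rfl⟩ := (Submodule.mem_localized' (Localization S) S
    (LocalizedModule.mkLinearMap S E) _ _).1 hyN
  exact ⟨LocalizedModule.mk m s, by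
    rw [← IsLocalizedModule.mk_eq_mk']; exact LocalizedModule.map_mk S f m s⟩

theorem mkLinearMap_surjective_of_injective [IsNoetherianRing R] (S : Submonoid R) {I : Type u}
    [AddCommGroup I] [Module R I] (hI : Module.Injective R I) :
    Function.Surjective (LocalizedModule.mkLinearMap S I) := by
  intro q
  obtain ⟨⟨x, s⟩, h⟩ := IsLocalizedModule.surj S (LocalizedModule.mkLinearMap S I) q
  simp only [Submonoid.smul_def] at h
  obtain ⟨t, ht, hstab⟩ := exists_stable_smul (M := R) S 1
  simp only [smul_eq_mul, mul_one] at hstab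
  let φ : R →ₗ[R] R := LinearMap.toSpanSingleton R R (t * s)
  have hle : LinearMap.ker φ ≤ LinearMap.ker (LinearMap.toSpanSingleton R I (t • x)) := by
    intro a ha
    simp only [LinearMap.mem_ker, φ, LinearMap.toSpanSingleton_apply, smul_eq_mul] at ha ⊢
    have h0 : a * t = 0 := hstab s a s.2 (by rw [← ha]; ring)
    rw [← mul_smul, h0, zero_smul]
  obtain ⟨g, hg⟩ := exists_extend hI ((LinearMap.ker φ).liftQ φ le_rfl)
    (LinearMap.ker_eq_bot.1 (Submodule.ker_liftQ_eq_bot _ _ _ le_rfl))
    ((LinearMap.ker φ).liftQ _ hle)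
  have h1 : g (t * s) = t • x := by
    have := LinearMap.congr_fun hg ((LinearMap.ker φ).mkQ 1)
    simp only [LinearMap.comp_apply, Submodule.mkQ_apply, Submodule.liftQ_apply, φ,
      LinearMap.toSpanSingleton_apply, one_smul] at this
    exact this
  refine ⟨g 1, ?_⟩
  have hu : IsUnit (algebraMap R (Module.End R (LocalizedModule S I)) (t * s)) :=
    IsLocalizedModule.map_units (LocalizedModule.mkLinearMap S I) ⟨t * s, S.mul_mem ht s.2⟩
  apply ((Module.End.isUnit_iff _).1 hu).1
  simp only [Module.algebraMap_end_apply]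
  rw [← map_smul, ← map_smul g, smul_eq_mul, mul_one, h1, mul_smul, h, map_smul]

end Groth.Agent.InjHull18
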