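import Groth.Agent.InjHull18.Criterion

/-!
# Recognising the hull by lengths
-/

universe u

namespace Groth.Agent.InjHull18

theorem exists_hull_of_length {A : Type u} [CommRing A] [IsLocalRing A] [IsNoetherianRing A]
    {I : Type u} [AddCommGroup I] [Module A I]
    (ha : LocCoh.IsPowerTorsion (IsLocalRing.maximalIdeal A) I)
    (hs : IsSimpleModule A ↥(LocCoh.torsionBy (IsLocalRing.maximalIdeal A) I))
    (a : ℕ → Ideal A) (hcof : ∀ n : ℕ, ∃ N : ℕ, IsLocalRing.maximalIdeal A ^ N ≤ a n)
    (hcof' : ∀ N : ℕ, ∃ n : ℕ, a n ≤ IsLocalRing.maximalIdeal A ^ N)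
    (hlen : ∀ n : ℕ, Module.length A (A ⧸ a n) = Module.length A ↥(LocCoh.torsionBy (a n) I)) :
    ∃ f : IsLocalRing.ResidueField A →ₗ[A] I, InjHull.IsInjectiveHull f := by
  obtain ⟨F, _, _, φ, hφ⟩ := exists_hull A (A ⧸ IsLocalRing.maximalIdeal A)
  obtain ⟨J, hJ, ⟨e'⟩⟩ := isSimpleModule_iff_quot_maximal.1 hs
  obtain rfl := IsLocalRing.eq_maximalIdeal hJ
  obtain ⟨g, hg⟩ := exists_extend hφ.isInjective (Submodule.subtype _)
    (Submodule.subtype_injective _) (φ ∘ₗ e'.toLinearMap)
  have hginj : Function.Injective g := injective_of_socle g ha fun x hx h0 => by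
    have h1 : φ (e' ⟨x, hx⟩) = 0 := (LinearMap.congr_fun hg ⟨x, hx⟩).symm.trans h0
    exact congrArg Subtype.val ((LinearEquiv.map_eq_zero_iff e').1
      (hφ.injective (h1.trans (map_zero φ).symm)))
  have hsurj : Function.Surjective g := by
    intro y
    obtain ⟨N, hN⟩ := isPowerTorsion_hull hφ y
    obtain ⟨n, hn⟩ := hcof' N
    obtain ⟨K, hK⟩ := hcof n
    have hfl : IsFiniteLength A (A ⧸ a n) := (isFiniteLength_quotient_pow K).of_surjective
      (f := Submodule.factor hK) (Submodule.factor_surjective hK)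
    have hlen' : Module.length A ↥(LocCoh.torsionBy (a n) F) = Module.length A (A ⧸ a n) := by
      rw [← (homQuotientEquiv (a n) F).length_eq]
      exact length_linearMap hφ hfl (isPowerTorsion_of_isFiniteLength hfl)
    obtain ⟨h1, h2⟩ := isFiniteLength_iff_isNoetherian_isArtinian.1 (Module.length_ne_top_iff.1
      (show Module.length A ↥(LocCoh.torsionBy (a n) F) ≠ ⊤ by
        rw [hlen']; exact Module.length_ne_top_iff.2 hfl))
    let Φ : ↥(LocCoh.torsionBy (a n) I) →ₗ[A] ↥(LocCoh.torsionBy (a n) F) :=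
      g.restrict fun x hx => (Submodule.mem_torsionBySet_iff _ _).2 fun b => by
        rw [← map_smul, (Submodule.mem_torsionBySet_iff _ _).1 hx b, map_zero]
    have hΦ : Function.Injective Φ := fun u v h => Subtype.ext (hginj (congrArg Subtype.val h))
    have htop : LinearMap.range Φ = ⊤ := by
      by_contra hne
      refine absurd (Submodule.length_lt hne) ?_
      rw [← (LinearEquiv.ofInjective Φ hΦ).length_eq, hlen', hlen n]
      exact lt_irrefl _
    obtain ⟨x, hx⟩ := LinearMap.range_eq_top.1 htop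
      ⟨y, (Submodule.mem_torsionBySet_iff _ _).2 fun b => hN b.1 (hn b.2)⟩
    exact ⟨x, congrArg Subtype.val hx⟩
  exact ⟨_, hull_equiv_comp hφ (LinearEquiv.ofBijective g ⟨hginj, hsurj⟩).symm⟩

end Groth.Agent.InjHull18
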