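import Groth.Agent.InjHull18.Torsion
import Mathlib.RingTheory.Length
import Mathlib.RingTheory.SimpleModule.Basic
import Mathlib.RingTheory.Ideal.KrullsHeightTheorem

/-!
# Matlis duality with respect to a maximal ideal
-/

universe u v

namespace Groth.Agent.InjHull18

variable {R : Type u} [CommRing R] {m : Ideal R}

section Socle

variable {M : Type v} [AddCommGroup M] [Module R M]

/-- A nonzero power torsion element has a nonzero multiple in the socle. -/
theorem exists_socle_smul {x : M} (hx : x ≠ 0) (h : ∃ n : ℕ, ∀ a ∈ m ^ n, a • x = 0) :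
    ∃ r : R, r • x ∈ LocCoh.torsionBy m M ∧ r • x ≠ 0 := by
  classical
  have hspec := Nat.find_spec h
  have hpos : Nat.find h ≠ 0 := fun h0 => hx (by
    rw [h0, pow_zero, Ideal.one_eq_top] at hspec
    simpa using hspec 1 trivial)
  obtain ⟨k, hk⟩ : ∃ k, Nat.find h = k + 1 := ⟨Nat.find h - 1, by omega⟩
  have hmin := Nat.find_min h (show k < Nat.find h by omega)
  push Not at hmin
  obtain ⟨r, hr, hr0⟩ := hmin
  refine ⟨r, (Submodule.mem_torsionBySet_iff _ _).2 fun ⟨a, ha⟩ => ?_, hr0⟩
  rw [← mul_smul]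
  exact hspec _ (hk ▸ (by rw [pow_succ, mul_comm a r]; exact Ideal.mul_mem_mul hr ha))

/-- An essential injection criterion through the socle. -/
theorem ess_of_socle_le {N : Type v} [AddCommGroup N] [Module R N] {f : N →ₗ[R] M}
    (hf : Function.Injective f) (htor : LocCoh.IsPowerTorsion m M)
    (h : LocCoh.torsionBy m M ≤ LinearMap.range f) : InjHull.IsEssentialInj f := by
  refine isEssentialInj_iff.2 ⟨hf, fun x hx => ?_⟩
  obtain ⟨r, hr, hr0⟩ := exists_socle_smul hx (htor x)
  exact ⟨r, h hr, hr0⟩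

theorem injective_of_socle {N : Type v} [AddCommGroup N] [Module R N] (g : M →ₗ[R] N)
    (htor : LocCoh.IsPowerTorsion m M) (h : ∀ x ∈ LocCoh.torsionBy m M, g x = 0 → x = 0) :
    Function.Injective g := by
  rw [← LinearMap.ker_eq_bot, Submodule.eq_bot_iff]
  intro x hx
  by_contra hx0
  obtain ⟨r, hr, hr0⟩ := exists_socle_smul hx0 (htor x)
  exact hr0 (h _ hr (by rw [map_smul, LinearMap.mem_ker.1 hx, smul_zero]))

theorem isPowerTorsion_of_killed (h : ∀ a ∈ m, ∀ x : M, a • x = 0) :
    LocCoh.IsPowerTorsion m M := fun x => ⟨1, fun a ha => h a (by simpa using ha) x⟩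

theorem isPowerTorsion_quotient : LocCoh.IsPowerTorsion m (R ⧸ m) :=
  isPowerTorsion_of_killed fun a ha x => by
    obtain ⟨y, rfl⟩ := Ideal.Quotient.mk_surjective x
    exact (Submodule.Quotient.mk_eq_zero _).2 (Ideal.mul_mem_right _ _ ha)

theorem smul_quotient_eq_zero {I : Ideal R} {a : R} (ha : a ∈ I) (x : R ⧸ I) : a • x = 0 := by
  obtain ⟨y, rfl⟩ := Ideal.Quotient.mk_surjective x
  exact (Submodule.Quotient.mk_eq_zero _).2 (Ideal.mul_mem_right _ _ ha)

/-- A finite length module over a local ring is killed by a power of the maximal ideal. -/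
theorem isPowerTorsion_of_isFiniteLength [IsLocalRing R] (hM : IsFiniteLength R M) :
    LocCoh.IsPowerTorsion (IsLocalRing.maximalIdeal R) M := by
  suffices ∃ n : ℕ, ∀ a ∈ IsLocalRing.maximalIdeal R ^ n, ∀ x : M, a • x = 0 from
    fun x => this.imp fun n hn a ha => hn a ha x
  induction hM with
  | of_subsingleton => exact ⟨0, fun a _ x => Subsingleton.elim _ _⟩
  | @of_simple_quotient X _ _ N _ hN ih =>
    obtain ⟨n, hn⟩ := ih
    refine ⟨n + 1, fun a ha x => ?_⟩
    have hq : ∀ b ∈ IsLocalRing.maximalIdeal R, b • x ∈ N := fun b hb => by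
      obtain ⟨I, hI, ⟨e⟩⟩ := isSimpleModule_iff_quot_maximal.1 ‹IsSimpleModule R (X ⧸ N)›
      rw [IsLocalRing.eq_maximalIdeal hI] at e
      refine (Submodule.Quotient.mk_eq_zero N).1 (e.injective ?_)
      rw [Submodule.Quotient.mk_smul, map_smul, map_zero]
      exact smul_quotient_eq_zero hb _
    rw [pow_succ] at ha
    induction ha using Submodule.mul_induction_on' with
    | mem_mul_mem c hc d hd =>
      rw [mul_smul]
      exact congrArg Subtype.val (hn c hc ⟨d • x, hq d hd⟩)
    | add c _ d _ h1 h2 => rw [add_smul, h1, h2, add_zero]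

end Socle

/-- `Hom(R ⧸ I, E)` is the submodule killed by `I`. -/
noncomputable def homQuotientEquiv (I : Ideal R) (E : Type v) [AddCommGroup E] [Module R E] :
    ((R ⧸ I) →ₗ[R] E) ≃ₗ[R] ↥(LocCoh.torsionBy I E) where
  toFun φ := ⟨φ (Ideal.Quotient.mk I 1), (Submodule.mem_torsionBySet_iff _ _).2 fun ⟨a, ha⟩ => by
    rw [← map_smul, smul_quotient_eq_zero ha, map_zero]⟩
  map_add' _ _ := rfl
  map_smul' _ _ := rfl
  invFun e := Submodule.liftQ I (LinearMap.toSpanSingleton R E e.1) fun a ha =>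
    (Submodule.mem_torsionBySet_iff _ _).1 e.2 ⟨a, ha⟩
  left_inv φ := by
    refine Submodule.linearMap_qext _ (LinearMap.ext_ring ?_)
    simp
  right_inv e := Subtype.ext (one_smul R _)

@[simp]
theorem homQuotientEquiv_apply (I : Ideal R) {E : Type v} [AddCommGroup E] [Module R E]
    (φ : (R ⧸ I) →ₗ[R] E) :
    (homQuotientEquiv I E φ : E) = φ (Ideal.Quotient.mk I 1) := rfl

theorem homQuotientEquiv_symm_mk (I : Ideal R) {E : Type v} [AddCommGroup E] [Module R E]
    (e : ↥(LocCoh.torsionBy I E)) (r : R) :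
    (homQuotientEquiv I E).symm e (Ideal.Quotient.mk I r) = r • (e : E) := rfl

section Hull

variable [m.IsMaximal] {E : Type u} [AddCommGroup E] [Module R E] {f : (R ⧸ m) →ₗ[R] E}

theorem torsionBy_eq_range (hf : InjHull.IsEssentialInj f) :
    LocCoh.torsionBy m E = LinearMap.range f := by
  refine le_antisymm (fun x hx => ?_) ?_
  · by_cases hx0 : x = 0
    · rw [hx0]; exact zero_mem _
    obtain ⟨r, ⟨c, hc⟩, hr0⟩ := exists_smul_mem_range hf hx0
    have hrm : r ∉ m := fun h => hr0 ((Submodule.mem_torsionBySet_iff _ _).1 hx ⟨r, h⟩)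
    obtain ⟨b, i, hi, hb⟩ := Ideal.IsMaximal.exists_inv ‹m.IsMaximal› hrm
    refine ⟨b • c, ?_⟩
    rw [map_smul, hc]
    calc b • r • x = (b * r + i) • x := by
          rw [add_smul, (Submodule.mem_torsionBySet_iff _ _).1 hx ⟨i, hi⟩, add_zero, mul_smul]
      _ = x := by rw [hb, one_smul]
  · rintro _ ⟨c, rfl⟩
    exact (Submodule.mem_torsionBySet_iff _ _).2 fun ⟨a, ha⟩ => by
      rw [← map_smul, smul_quotient_eq_zero ha, map_zero]

/-- An injective hull of a simple module cogenerates its power torsion modules. -/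
theorem exists_map_ne_zero (hf : InjHull.IsInjectiveHull f) {G : Type u} [AddCommGroup G]
    [Module R G] {x : G} (hx : ∀ r : R, r • x = 0 → r ∈ m) : ∃ φ : G →ₗ[R] E, φ x ≠ 0 := by
  let ψ := LinearMap.toSpanSingleton R G x
  have hle : LinearMap.ker ψ ≤ LinearMap.ker (f ∘ₗ Submodule.mkQ m) := fun r hr => by
    rw [LinearMap.mem_ker, LinearMap.comp_apply, Submodule.mkQ_apply,
      (Submodule.Quotient.mk_eq_zero _).2 (hx r hr), map_zero]
  obtain ⟨φ, hφ⟩ := exists_extend hf.isInjective ((LinearMap.ker ψ).liftQ ψ le_rfl)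
    (LinearMap.ker_eq_bot.1 (Submodule.ker_liftQ_eq_bot _ _ _ le_rfl))
    ((LinearMap.ker ψ).liftQ _ hle)
  refine ⟨φ, fun h => ?_⟩
  have h1 := LinearMap.congr_fun hφ ((LinearMap.ker ψ).mkQ 1)
  simp only [LinearMap.comp_apply, Submodule.mkQ_apply, Submodule.liftQ_apply, ψ,
    LinearMap.toSpanSingleton_apply, one_smul, h] at h1
  have h2 : Submodule.Quotient.mk (1 : R) = (0 : R ⧸ m) := hf.injective (by rw [← h1, map_zero])
  exact ‹m.IsMaximal›.ne_top
    (Ideal.eq_top_iff_one _ |>.2 ((Submodule.Quotient.mk_eq_zero _).1 h2))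

theorem applyₗ_injective_of_powerTorsion (hf : InjHull.IsInjectiveHull f) {G : Type u}
    [AddCommGroup G] [Module R G] (hG : LocCoh.IsPowerTorsion m G) :
    Function.Injective (LinearMap.applyₗ : G →ₗ[R] (G →ₗ[R] E) →ₗ[R] E) := by
  rw [← LinearMap.ker_eq_bot, Submodule.eq_bot_iff]
  intro x hx
  by_contra hx0
  obtain ⟨n, hn⟩ := hG x
  obtain ⟨φ, hφ⟩ := exists_map_ne_zero hf (x := x) fun r hr => by
    by_contra hrm
    obtain ⟨b, i, hi, hb⟩ := Ideal.IsMaximal.exists_inv ‹m.IsMaximal› hrm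
    refine hx0 ?_
    have h1 : (1 - b * r) ^ n • x = 0 :=
      hn _ (Ideal.pow_mem_pow (by rwa [← hb, add_sub_cancel_left]) n)
    have h2 : ∀ k : ℕ, (1 - b * r) ^ k • x = x := fun k => by
      induction k with
      | zero => simp
      | succ k ih => rw [pow_succ, mul_smul, sub_smul, mul_smul, hr, smul_zero, sub_zero,
          one_smul, ih]
    rwa [h2] at h1
  exact hφ (LinearMap.congr_fun (LinearMap.mem_ker.1 hx) φ)

theorem isSimpleModule_linearMap (hf : InjHull.IsEssentialInj f) :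
    IsSimpleModule R ((R ⧸ m) →ₗ[R] E) :=
  have : IsSimpleModule R (R ⧸ m) :=
    isSimpleModule_iff_quot_maximal.2 ⟨m, ‹_›, ⟨LinearEquiv.refl _ _⟩⟩
  IsSimpleModule.congr ((homQuotientEquiv m E).trans
    ((LinearEquiv.ofEq _ _ (torsionBy_eq_range hf)).trans
      (LinearEquiv.ofInjective f hf.injective).symm))

theorem length_linearMap (hf : InjHull.IsInjectiveHull f) {M : Type u} [AddCommGroup M]
    [Module R M] (hM : IsFiniteLength R M) (htor : LocCoh.IsPowerTorsion m M) :
    Module.length R (M →ₗ[R] E) = Module.length R M := by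
  induction hM with
  | @of_subsingleton X _ _ _ =>
    have : Subsingleton (X →ₗ[R] E) := ⟨fun a b => LinearMap.ext fun x => by
      rw [Subsingleton.elim x 0, map_zero, map_zero]⟩
    simp [Module.length_eq_zero]
  | @of_simple_quotient X _ _ N _ hN ih =>
    rw [Module.length_eq_add_of_exact N.subtype N.mkQ N.subtype_injective N.mkQ_surjective
        (LinearMap.exact_subtype_mkQ N),
      ← ih (isPowerTorsion_of_injective_map htor _ N.subtype_injective)]
    have hexact : Function.Exact (LinearMap.lcomp R E N.mkQ) (LinearMap.lcomp R E N.subtype) := by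
      intro φ
      constructor
      · intro h
        exact ⟨N.liftQ φ fun x hx => LinearMap.congr_fun h ⟨x, hx⟩, rfl⟩
      · rintro ⟨ψ, rfl⟩
        ext x
        simp [(Submodule.Quotient.mk_eq_zero N).2 x.2]
    rw [Module.length_eq_add_of_exact _ _ (fun a b h => Submodule.linearMap_qext _ h)
      (fun g => exists_extend hf.isInjective N.subtype N.subtype_injective g) hexact, add_comm]
    congr 1
    obtain ⟨I, hI, ⟨e⟩⟩ := isSimpleModule_iff_quot_maximal.1 ‹IsSimpleModule R (X ⧸ N)›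
    have hIm : m = I := by
      obtain ⟨n, hn⟩ := isPowerTorsion_of_surjective_map htor _ N.mkQ_surjective
        (e.symm (Ideal.Quotient.mk I 1))
      refine Ideal.IsMaximal.eq_of_le ‹m.IsMaximal› hI.ne_top
        (hI.isPrime.le_of_pow_le (n := n) fun a ha => ?_)
      have h1 := congrArg e (hn a ha)
      rw [map_smul, e.apply_symm_apply, map_zero] at h1
      have h2 : Ideal.Quotient.mk I (a * 1) = 0 := h1
      rw [mul_one] at h2
      exact Ideal.Quotient.eq_zero_iff_mem.1 h2
    subst hIm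
    have := isSimpleModule_linearMap hf.toIsEssentialInj
    rw [(LinearEquiv.arrowCongr e (LinearEquiv.refl R E)).length_eq, Module.length_eq_one,
      Module.length_eq_one]

theorem applyₗ_bijective (hf : InjHull.IsInjectiveHull f) {M : Type u} [AddCommGroup M]
    [Module R M] (hM : IsFiniteLength R M) (htor : LocCoh.IsPowerTorsion m M) :
    Function.Bijective (LinearMap.applyₗ : M →ₗ[R] (M →ₗ[R] E) →ₗ[R] E) := by
  have hinj := applyₗ_injective_of_powerTorsion hf htor
  refine ⟨hinj, LinearMap.range_eq_top.1 ?_⟩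
  have hlen := length_linearMap hf hM htor
  have hdual : IsFiniteLength R (M →ₗ[R] E) :=
    Module.length_ne_top_iff.1 (by rw [hlen]; exact Module.length_ne_top_iff.2 hM)
  obtain ⟨n, hn⟩ : ∃ n : ℕ, ∀ a ∈ m ^ n, ∀ x : M, a • x = 0 := by
    have : Module.Finite R M := by
      have := (isFiniteLength_iff_isNoetherian_isArtinian.1 hM).1
      infer_instance
    exact exists_pow_smul_eq_zero htor
  have htor' : LocCoh.IsPowerTorsion m (M →ₗ[R] E) := fun φ => ⟨n, fun a ha => by
    ext x
    rw [LinearMap.smul_apply, ← map_smul, hn a ha, map_zero, LinearMap.zero_apply]⟩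
  have hlen' : Module.length R ((M →ₗ[R] E) →ₗ[R] E) = Module.length R M :=
    (length_linearMap hf hdual htor').trans hlen
  obtain ⟨h1, h2⟩ := isFiniteLength_iff_isNoetherian_isArtinian.1 (Module.length_ne_top_iff.1
    (show Module.length R ((M →ₗ[R] E) →ₗ[R] E) ≠ ⊤ by
      rw [hlen']; exact Module.length_ne_top_iff.2 hM))
  by_contra hne
  exact absurd (Submodule.length_lt hne) (by
    rw [← (LinearEquiv.ofInjective _ hinj).length_eq, hlen']; exact lt_irrefl _)

theorem isFiniteLength_quotient_pow [IsNoetherianRing R] (n : ℕ) :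
    IsFiniteLength R (R ⧸ m ^ n) := by
  have h1 : IsArtinianRing (R ⧸ m ^ n) := by
    refine isArtinianRing_iff_isNoetherianRing_krullDimLE_zero.2 ⟨inferInstance,
      Ring.krullDimLE_zero_iff.2 fun P hP => ?_⟩
    have hle : m ≤ P.comap (Ideal.Quotient.mk (m ^ n)) :=
      (hP.comap _).le_of_pow_le (n := n) fun a ha => by
        simp [Ideal.mem_comap, Ideal.Quotient.eq_zero_iff_mem.2 ha]
    have h2 := Ideal.IsMaximal.eq_of_le ‹m.IsMaximal› (hP.comap _).ne_top hle
    refine Ideal.isMaximal_iff.2 ⟨(Ideal.ne_top_iff_one _).1 hP.ne_top, fun Q x hPQ hxP hxQ => ?_⟩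
    have h3 : P.comap (Ideal.Quotient.mk (m ^ n)) ≤ Q.comap (Ideal.Quotient.mk _) :=
      Ideal.comap_mono hPQ
    obtain ⟨y, rfl⟩ := Ideal.Quotient.mk_surjective x
    by_contra hQ
    have := Ideal.IsMaximal.eq_of_le ‹m.IsMaximal› (Ideal.comap_ne_top _
      ((Ideal.ne_top_iff_one _).2 hQ)) (hle.trans h3)
    exact hxP (hle (this.ge (Ideal.mem_comap.2 hxQ)))
  rw [← Module.length_ne_top_iff,
    Module.length_eq_of_surjective (R := R ⧸ m ^ n) Ideal.Quotient.mk_surjective]
  exact Module.length_ne_top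

theorem isFiniteLength_torsionBy_pow [IsNoetherianRing R] (hf : InjHull.IsInjectiveHull f)
    (n : ℕ) : IsFiniteLength R ↥(LocCoh.torsionBy (m ^ n) E) := by
  rw [← Module.length_ne_top_iff, ← (homQuotientEquiv (m ^ n) E).length_eq,
    length_linearMap hf (isFiniteLength_quotient_pow n)
      (fun x => ⟨n, fun a ha => smul_quotient_eq_zero ha x⟩)]
  exact Module.length_ne_top_iff.2 (isFiniteLength_quotient_pow n)

/-- Every map `E[m^n] → E` is multiplication by a scalar. -/
theorem exists_smul_eq [IsNoetherianRing R] (hf : InjHull.IsInjectiveHull f) (n : ℕ)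
    (φ : ↥(LocCoh.torsionBy (m ^ n) E) →ₗ[R] E) : ∃ r : R, ∀ e, φ e = r • (e : E) := by
  obtain ⟨c, hc⟩ := (applyₗ_bijective hf (isFiniteLength_quotient_pow n)
    (fun x => ⟨n, fun a ha => smul_quotient_eq_zero ha x⟩)).2
      (φ ∘ₗ (homQuotientEquiv (m ^ n) E).toLinearMap)
  obtain ⟨r, rfl⟩ := Ideal.Quotient.mk_surjective c
  refine ⟨r, fun e => ?_⟩
  have h := LinearMap.congr_fun hc ((homQuotientEquiv (m ^ n) E).symm e)
  simp only [LinearMap.comp_apply, LinearEquiv.coe_coe, LinearEquiv.apply_symm_apply] at h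
  exact h.symm

/-- The annihilator of `E[m^n]` is `m^n`. -/
theorem mem_pow_of_smul_eq_zero (hf : InjHull.IsInjectiveHull f) (n : ℕ) {r : R}
    (h : ∀ e ∈ LocCoh.torsionBy (m ^ n) E, r • e = 0) : r ∈ m ^ n := by
  refine Ideal.Quotient.eq_zero_iff_mem.1
    (applyₗ_injective_of_powerTorsion hf (G := R ⧸ m ^ n)
      (fun x => ⟨n, fun a ha => smul_quotient_eq_zero ha x⟩) ?_)
  ext φ
  rw [map_zero, LinearMap.zero_apply]
  have h1 := homQuotientEquiv_symm_mk (m ^ n) (homQuotientEquiv (m ^ n) E φ) r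
  rw [LinearEquiv.symm_apply_apply] at h1
  exact h1.trans (h _ (homQuotientEquiv (m ^ n) E φ).2)

end Hull

/-- Over a local ring, an injective hull of the residue field cogenerates all modules. -/
theorem exists_map_ne_zero_local [IsLocalRing R] {E : Type u} [AddCommGroup E] [Module R E]
    {f : IsLocalRing.ResidueField R →ₗ[R] E} (hf : InjHull.IsInjectiveHull f) {G : Type u}
    [AddCommGroup G] [Module R G] {x : G} (hx : x ≠ 0) : ∃ φ : G →ₗ[R] E, φ x ≠ 0 :=
  exists_map_ne_zero (m := IsLocalRing.maximalIdeal R) (f := f) hf fun r hr =>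
    (IsLocalRing.mem_maximalIdeal r).2 fun hu => hx (hu.smul_eq_zero.1 hr)

end Groth.Agent.InjHull18
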