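import Groth.Agent.InjHull18.Basic
import Mathlib.Algebra.Algebra.Epi
import Mathlib.LinearAlgebra.TensorProduct.Tower
import Mathlib.RingTheory.Flat.Basic
import Mathlib.RingTheory.TensorProduct.Basic

/-!
# Injective modules and change of rings
-/

universe u v

open TensorProduct

namespace Groth.Agent.InjHull18

variable {R S : Type u} [CommRing R] [CommRing S] [Algebra R S]

theorem injective_restrictScalars_of_flat [Module.Flat R S] (E : Type u) [AddCommGroup E]
    [Module S E] [Module R E] [IsScalarTower R S E] [Module.Injective S E] :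
    Module.Injective R E where
  out X Y _ _ _ _ f hf g := by
    have hinj : Function.Injective (f.baseChange S) := Module.Flat.lTensor_preserves_injective_linearMap (M := S) f hf
    obtain ⟨h, hh⟩ := Module.Injective.out (R := S) (f.baseChange S) hinj (g.liftBaseChange S)
    exact ⟨(h.restrictScalars R) ∘ₗ TensorProduct.mk R S Y 1, fun x => by
      simpa using hh (1 ⊗ₜ x)⟩

theorem smul_comm_of_isEpi [Algebra.IsEpi R S] {X Y : Type v} [AddCommGroup X] [Module S X]
    [Module R X] [IsScalarTower R S X] [AddCommGroup Y] [Module S Y] [Module R Y]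
    [IsScalarTower R S Y] (h : X →ₗ[R] Y) (s : S) (x : X) : h (s • x) = s • h x := by
  let β : S ⊗[R] S →ₗ[R] Y := TensorProduct.lift
    (LinearMap.mk₂ R (fun a b => a • h (b • x))
      (fun a a' b => add_smul a a' _) (fun c a b => smul_assoc c a _)
      (fun a b b' => by rw [add_smul, map_add, smul_add])
      (fun c a b => by rw [smul_assoc c b x, map_smul, smul_comm]))
  have := congrArg β ((Algebra.isEpi_iff_forall_one_tmul_eq R S).1 inferInstance s)
  simpa [β] using this

theorem injective_of_isEpi_of_restrictScalars [Algebra.IsEpi R S] (E : Type u) [AddCommGroup E]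
    [Module S E] [Module R E] [IsScalarTower R S E] [Module.Injective R E] :
    Module.Injective S E where
  out X Y _ _ _ _ f hf g := by
    let _ : Module R X := Module.compHom X (algebraMap R S)
    let _ : Module R Y := Module.compHom Y (algebraMap R S)
    have : IsScalarTower R S X := IsScalarTower.of_compHom R S X
    have : IsScalarTower R S Y := IsScalarTower.of_compHom R S Y
    obtain ⟨h, hh⟩ := Module.Injective.out (R := R) (f.restrictScalars R) hf (g.restrictScalars R)
    exact ⟨{ toFun := h, map_add' := map_add h, map_smul' := smul_comm_of_isEpi h }, hh⟩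

variable {M E : Type u} [AddCommGroup M] [Module R M] [AddCommGroup E] [Module R E]

theorem injective_torsionBySet (hE : Module.Injective R E) (b : Ideal R) :
    Module.Injective (R ⧸ b) ↥(Submodule.torsionBySet R E (b : Set R)) where
  out X Y _ _ _ _ f hf g := by
    let _ : Module R X := Module.compHom X (algebraMap R (R ⧸ b))
    let _ : Module R Y := Module.compHom Y (algebraMap R (R ⧸ b))
    have : IsScalarTower R (R ⧸ b) X := IsScalarTower.of_compHom R _ X
    have : IsScalarTower R (R ⧸ b) Y := IsScalarTower.of_compHom R _ Y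
    obtain ⟨h, hh⟩ := hE.out (f.restrictScalars R) hf
      ((Submodule.subtype _) ∘ₗ g.restrictScalars R)
    have hmem : ∀ y, h y ∈ Submodule.torsionBySet R E (b : Set R) := fun y =>
      (Submodule.mem_torsionBySet_iff _ _).2 fun ⟨a, ha⟩ => by
        rw [← map_smul, ← algebraMap_smul (R ⧸ b) a y, Ideal.Quotient.algebraMap_eq,
          Ideal.Quotient.eq_zero_iff_mem.2 ha, zero_smul, map_zero]
    refine ⟨LinearMap.extendScalarsOfSurjective Ideal.Quotient.mk_surjective
      (h.codRestrict _ hmem), fun x => Subtype.ext (hh x)⟩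

theorem hull_torsionBy (b' : Ideal R) [Module (R ⧸ b') M] [IsScalarTower R (R ⧸ b') M] {f : M →ₗ[R] E}
    (hf : InjHull.IsInjectiveHull f) :
    ∃ g : M →ₗ[R ⧸ b'] ↥(LocCoh.torsionBy b' E), InjHull.IsInjectiveHull g ∧
      ∀ x : M, ((g x : LocCoh.torsionBy b' E) : E) = f x := by
  have hmem : ∀ x, f x ∈ LocCoh.torsionBy b' E := fun x =>
    (Submodule.mem_torsionBySet_iff _ _).2 fun ⟨a, ha⟩ => by
      rw [← map_smul, ← algebraMap_smul (R ⧸ b') a x, Ideal.Quotient.algebraMap_eq,
        Ideal.Quotient.eq_zero_iff_mem.2 ha, zero_smul, map_zero]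
  refine ⟨LinearMap.extendScalarsOfSurjective Ideal.Quotient.mk_surjective
    (f.codRestrict _ hmem), ⟨isEssentialInj_iff.2 ⟨fun x y h => hf.injective
      (congrArg Subtype.val h), fun x hx => ?_⟩, injective_torsionBySet hf.isInjective b'⟩,
    fun _ => rfl⟩
  obtain ⟨r, ⟨m, hm⟩, hr0⟩ := exists_smul_mem_range hf.toIsEssentialInj
    (x := (x : E)) fun h => hx (Subtype.ext h)
  exact ⟨Ideal.Quotient.mk b' r, ⟨m, Subtype.ext hm⟩, fun h => hr0 (congrArg Subtype.val h)⟩

end Groth.Agent.InjHull18
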