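import Groth.Agent.InjHull18.Length
import Mathlib.LinearAlgebra.TensorProduct.Pi
import Mathlib.RingTheory.Flat.Basic
import Mathlib.RingTheory.LocalRing.Length

/-!
# Base change of hulls along flat maps
-/

universe u

open TensorProduct

namespace Groth.Agent.InjHull18

variable {A : Type u} [CommRing A] {B : Type u} [CommRing B] [Algebra A B]
variable {M : Type u} [AddCommGroup M] [Module A M]

theorem smul_eq_zero_iff_map (J : Ideal A) (z : B ⊗[A] M) :
    (∀ b ∈ J.map (algebraMap A B), b • z = 0) ↔ ∀ a ∈ J, a • z = 0 := by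
  refine ⟨fun h a ha => ?_, fun h b hb => ?_⟩
  · rw [← algebraMap_smul B a z]
    exact h _ (Ideal.mem_map_of_mem _ ha)
  · replace hb : b ∈ Ideal.span (algebraMap A B '' (J : Set A)) := hb
    induction hb using Submodule.span_induction with
    | mem b hb =>
      obtain ⟨a, ha, rfl⟩ := hb
      rw [algebraMap_smul]
      exact h a ha
    | zero => exact zero_smul _ _
    | add a b _ _ h1 h2 => rw [add_smul, h1, h2, add_zero]
    | smul c a _ h1 => rw [smul_eq_mul, mul_smul, h1, smul_zero]

variable [IsNoetherianRing A] [Module.Flat A B]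

/-- Torsion of a flat base change. -/
noncomputable def baseChangeTorsionEquiv (J : Ideal A) :
    B ⊗[A] ↥(LocCoh.torsionBy J M) ≃ₗ[B] ↥(LocCoh.torsionBy (J.map (algebraMap A B)) (B ⊗[A] M)) :=
  (LinearEquiv.ofInjective ((Submodule.subtype (LocCoh.torsionBy J M)).baseChange B)
    (Module.Flat.lTensor_preserves_injective_linearMap (M := B) _
      (Submodule.subtype_injective _))).trans <| LinearEquiv.ofEq _ _ <| by
    apply le_antisymm
    · rintro _ ⟨w, rfl⟩
      refine (Submodule.mem_torsionBySet_iff _ _).2 fun b =>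
        (smul_eq_zero_iff_map J _).2 (fun a ha => ?_) b.1 b.2
      induction w with
      | zero => simp
      | add x y hx hy => rw [map_add, smul_add, hx, hy, add_zero]
      | tmul x e =>
        rw [LinearMap.baseChange_tmul, smul_tmul', smul_tmul, Submodule.coe_subtype,
          (Submodule.mem_torsionBySet_iff _ _).1 e.2 ⟨a, ha⟩, tmul_zero]
    · intro z hz
      obtain ⟨n, s, hs⟩ := Submodule.fg_iff_exists_fin_generating_family.1
        (IsNoetherian.noetherian J)
      let φ : M →ₗ[A] (Fin n → M) := LinearMap.pi fun i => LinearMap.lsmul A M (s i)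
      have hexact : Function.Exact (Submodule.subtype (LocCoh.torsionBy J M)) φ := by
        intro x
        refine ⟨fun h => ⟨⟨x, (Submodule.mem_torsionBySet_iff _ _).2 fun ⟨a, ha⟩ => ?_⟩, rfl⟩, ?_⟩
        · suffices H : ∀ t ∈ Submodule.span A (Set.range s), t • x = 0 from H a (hs.ge ha)
          intro t ht
          induction ht using Submodule.span_induction with
          | mem t ht => obtain ⟨i, rfl⟩ := ht; exact congrFun h i
          | zero => exact zero_smul _ _
          | add a b _ _ h1 h2 => rw [add_smul, h1, h2, add_zero]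
          | smul c a _ h1 => rw [smul_eq_mul, mul_smul, h1, smul_zero]
        · rintro ⟨e, rfl⟩
          funext i
          exact (Submodule.mem_torsionBySet_iff _ _).1 e.2
            ⟨s i, hs.le (Submodule.subset_span ⟨i, rfl⟩)⟩
      have h0 : φ.lTensor B z = 0 := by
        refine (TensorProduct.piRight A A B fun _ : Fin n => M).injective ?_
        rw [map_zero]
        funext i
        have hcomp : ∀ w : B ⊗[A] M,
            TensorProduct.piRight A A B (fun _ : Fin n => M) (φ.lTensor B w) i = s i • w := by
          intro w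
          induction w with
          | zero => simp
          | add x y hx hy => rw [map_add, map_add, Pi.add_apply, hx, hy, smul_add]
          | tmul x e =>
            rw [LinearMap.lTensor_tmul, TensorProduct.piRight_apply]
            show x ⊗ₜ[A] (s i • e) = s i • x ⊗ₜ[A] e
            rw [tmul_smul]
        rw [hcomp, Pi.zero_apply]
        exact (smul_eq_zero_iff_map J z).1
          (fun b hb => (Submodule.mem_torsionBySet_iff _ _).1 hz ⟨b, hb⟩) _
          (hs.le (Submodule.subset_span ⟨i, rfl⟩))
      obtain ⟨w, hw⟩ := ((Module.Flat.lTensor_exact B hexact) z).1 h0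
      exact ⟨w, hw⟩

/-- Base change of a hull along a flat local map with Artinian fibre of simple socle. -/
theorem exists_hull_baseChange [IsLocalRing A] [IsLocalRing B] [IsNoetherianRing B]
    [IsLocalHom (algebraMap A B)] {E : Type u} [AddCommGroup E] [Module A E]
    {f : IsLocalRing.ResidueField A →ₗ[A] E} (hf : InjHull.IsInjectiveHull f)
    (hK : ∃ K : ℕ, IsLocalRing.maximalIdeal B ^ K ≤
      (IsLocalRing.maximalIdeal A).map (algebraMap A B))
    (hsoc : IsSimpleModule B ↥(LocCoh.torsionBy (IsLocalRing.maximalIdeal B)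
      (B ⧸ (IsLocalRing.maximalIdeal A).map (algebraMap A B)))) :
    ∃ g : IsLocalRing.ResidueField B →ₗ[B] B ⊗[A] E, InjHull.IsInjectiveHull g := by
  obtain ⟨K, hK⟩ := hK
  have hle : (IsLocalRing.maximalIdeal A).map (algebraMap A B) ≤ IsLocalRing.maximalIdeal B :=
    Ideal.map_le_iff_le_comap.2 fun a ha => map_nonunit (algebraMap A B) a ha
  have hle' : IsLocalRing.maximalIdeal A ≤
      (IsLocalRing.maximalIdeal B).comap (algebraMap A B) := Ideal.map_le_iff_le_comap.1 hle
  have hpt : ∀ z : B ⊗[A] E, ∃ n : ℕ, ∀ a ∈ IsLocalRing.maximalIdeal A ^ n, a • z = 0 := by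
    intro z
    induction z with
    | zero => exact ⟨0, fun a _ => smul_zero a⟩
    | add x y hx hy =>
      obtain ⟨p, hp⟩ := hx
      obtain ⟨q, hq⟩ := hy
      exact ⟨p + q, fun a ha => by
        rw [smul_add, hp a (Ideal.pow_le_pow_right (by omega) ha),
          hq a (Ideal.pow_le_pow_right (by omega) ha), add_zero]⟩
    | tmul x e =>
      obtain ⟨p, hp⟩ := isPowerTorsion_hull (m := IsLocalRing.maximalIdeal A) (f := f) hf e
      exact ⟨p, fun a ha => by rw [smul_tmul', smul_tmul, hp a ha, tmul_zero]⟩
  have hlenE : ∀ n : ℕ, Module.length A ↥(LocCoh.torsionBy (IsLocalRing.maximalIdeal A ^ n) E) =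
      Module.length A (A ⧸ IsLocalRing.maximalIdeal A ^ n) := fun n => by
    rw [← (homQuotientEquiv (IsLocalRing.maximalIdeal A ^ n) E).length_eq]
    exact length_linearMap (m := IsLocalRing.maximalIdeal A) (f := f) hf
      (isFiniteLength_quotient_pow n) (fun x => ⟨n, fun a ha => smul_quotient_eq_zero ha x⟩)
  refine exists_hull_of_length (fun z => ?_) ?_
    (fun n => (IsLocalRing.maximalIdeal A ^ n).map (algebraMap A B)) (fun n => ⟨K * n, ?_⟩)
    (fun N => ⟨N, ?_⟩) fun n => ?_
  · obtain ⟨n, hn⟩ := hpt z
    refine ⟨K * n, fun b hb => (smul_eq_zero_iff_map _ z).2 hn b ?_⟩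
    rw [Ideal.map_pow]
    rw [pow_mul] at hb
    exact Ideal.pow_right_mono hK n hb
  · -- the socle
    have e₁ : (A ⧸ IsLocalRing.maximalIdeal A) ≃ₗ[A]
        ↥(LocCoh.torsionBy (IsLocalRing.maximalIdeal A) E) :=
      (LinearEquiv.ofInjective f hf.injective).trans (LinearEquiv.ofEq _ _
        (torsionBy_eq_range (m := IsLocalRing.maximalIdeal A) (f := f) hf.toIsEssentialInj).symm)
    let e : (B ⧸ (IsLocalRing.maximalIdeal A).map (algebraMap A B)) ≃ₗ[B]
        ↥(LocCoh.torsionBy ((IsLocalRing.maximalIdeal A).map (algebraMap A B)) (B ⊗[A] E)) :=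
      ((Algebra.TensorProduct.quotIdealMapEquivTensorQuot B
        (IsLocalRing.maximalIdeal A)).toLinearEquiv.trans
        (LinearEquiv.baseChange A B _ _ e₁)).trans
        (baseChangeTorsionEquiv (IsLocalRing.maximalIdeal A))
    have e₂ : ↥(LocCoh.torsionBy (IsLocalRing.maximalIdeal B)
        (B ⧸ (IsLocalRing.maximalIdeal A).map (algebraMap A B))) ≃ₗ[B]
        ↥(LocCoh.torsionBy (IsLocalRing.maximalIdeal B) (B ⊗[A] E)) :=
      { toFun := fun x => ⟨e x.1, (Submodule.mem_torsionBySet_iff _ _).2 fun b => by
          have := congrArg e ((Submodule.mem_torsionBySet_iff _ _).1 x.2 b)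
          rw [map_smul, map_zero] at this
          exact congrArg Subtype.val this⟩
        map_add' := fun x y => Subtype.ext (by simp)
        map_smul' := fun c x => Subtype.ext (by simp)
        invFun := fun y => ⟨e.symm ⟨y.1, (Submodule.mem_torsionBySet_iff _ _).2 fun b =>
            (Submodule.mem_torsionBySet_iff _ _).1 y.2 ⟨b.1, hle b.2⟩⟩,
          (Submodule.mem_torsionBySet_iff _ _).2 fun b => e.injective (by
            rw [map_smul, e.apply_symm_apply, map_zero]
            exact Subtype.ext ((Submodule.mem_torsionBySet_iff _ _).1 y.2 b))⟩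
        left_inv := fun x => Subtype.ext (by simp)
        right_inv := fun y => Subtype.ext (by simp) }
    exact IsSimpleModule.congr e₂.symm
  · rw [Ideal.map_pow, pow_mul]
    exact Ideal.pow_right_mono hK n
  · rw [Ideal.map_pow]
    exact Ideal.pow_right_mono hle N
  · calc Module.length B (B ⧸ (IsLocalRing.maximalIdeal A ^ n).map (algebraMap A B))
        = Module.length B (B ⊗[A] (A ⧸ IsLocalRing.maximalIdeal A ^ n)) :=
          LinearEquiv.length_eq (Algebra.TensorProduct.quotIdealMapEquivTensorQuot B
            (IsLocalRing.maximalIdeal A ^ n)).toLinearEquiv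
      _ = Module.length B (B ⊗[A] ↥(LocCoh.torsionBy (IsLocalRing.maximalIdeal A ^ n) E)) := by
          rw [IsLocalRing.length_baseChange, IsLocalRing.length_baseChange, hlenE]
      _ = _ := LinearEquiv.length_eq
          (baseChangeTorsionEquiv (B := B) (M := E) (IsLocalRing.maximalIdeal A ^ n))

end Groth.Agent.InjHull18
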