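import Groth.Agent.InjHull18.Matlis
import Mathlib.RingTheory.ReesAlgebra
import Mathlib.RingTheory.Artinian.Module
import Mathlib.LinearAlgebra.Dimension.Constructions
import Mathlib.LinearAlgebra.FreeModule.Finite.Basic
import Mathlib.RingTheory.LocalRing.Quotient
import Mathlib.Data.Fintype.EquivFin

/-!
# Artinian modules and injective hulls of simple modules
-/

universe u

open Polynomial

namespace Groth.Agent.InjHull18

variable {R : Type u} [CommRing R] {m : Ideal R}
variable {E : Type u} [AddCommGroup E] [Module R E]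

/-- The ideal of the Rees algebra attached to a submodule of a power torsion module. -/
noncomputable def reesAnn (m : Ideal R) (N : Submodule R E) : Ideal (reesAlgebra m) where
  carrier := {p | ∀ n : ℕ, ∀ x ∈ N, x ∈ LocCoh.torsionBy (m ^ (n + 1)) E →
    (p : R[X]).coeff n • x = 0}
  zero_mem' n x _ _ := by simp
  add_mem' {p q} hp hq n x hx hxt := by
    rw [Subalgebra.coe_add, coeff_add, add_smul, hp n x hx hxt, hq n x hx hxt, add_zero]
  smul_mem' c p hp n x hx hxt := by
    rw [smul_eq_mul, Subalgebra.coe_mul, coeff_mul, Finset.sum_smul]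
    refine Finset.sum_eq_zero fun ij hij => ?_
    rw [Finset.HasAntidiagonal.mem_antidiagonal] at hij
    rw [mul_comm, mul_smul]
    refine hp ij.2 _ (N.smul_mem _ hx) ((Submodule.mem_torsionBySet_iff _ _).2 fun ⟨a, ha⟩ => ?_)
    rw [← mul_smul]
    refine (Submodule.mem_torsionBySet_iff _ _).1 hxt ⟨_, ?_⟩
    rw [← hij, mul_comm a, show ij.1 + ij.2 + 1 = ij.1 + (ij.2 + 1) from add_assoc _ _ _, pow_add]
    exact Ideal.mul_mem_mul (c.2 ij.1) ha

variable [IsNoetherianRing R] [m.IsMaximal] {f : (R ⧸ m) →ₗ[R] E}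

omit [m.IsMaximal] in
theorem isPowerTorsion_hull (hf : InjHull.IsInjectiveHull f) : LocCoh.IsPowerTorsion m E :=
  hull_isPowerTorsion hf isPowerTorsion_quotient

theorem le_of_reesAnn_le (hf : InjHull.IsInjectiveHull f) {N N' : Submodule R E} (hle : N' ≤ N)
    (h : reesAnn m N' ≤ reesAnn m N) : N ≤ N' := by
  suffices ∀ n : ℕ, ∀ x ∈ N, x ∈ LocCoh.torsionBy (m ^ n) E → x ∈ N' by
    intro x hx
    obtain ⟨n, hn⟩ := isPowerTorsion_hull hf x
    exact this n x hx ((Submodule.mem_torsionBySet_iff _ _).2 fun ⟨a, ha⟩ => hn a ha)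
  intro n
  induction n with
  | zero =>
    intro x _ hx
    have h1 := (Submodule.mem_torsionBySet_iff _ _).1 hx ⟨1, by simp⟩
    rw [show x = 0 by simpa using h1]
    exact zero_mem _
  | succ n ih =>
    intro x hxN hxt
    by_contra hxN'
    let W : Submodule R ↥(LocCoh.torsionBy (m ^ (n + 1)) E) :=
      N'.comap (Submodule.subtype _) ⊔ (LocCoh.torsionBy (m ^ n) E).comap (Submodule.subtype _)
    have hxW : (⟨x, hxt⟩ : LocCoh.torsionBy (m ^ (n + 1)) E) ∉ W := by
      intro hW
      obtain ⟨y, hy, z, hz, hyz⟩ := Submodule.mem_sup.1 hW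
      have hyz' : (y : E) + z = x := congrArg Subtype.val hyz
      have : (z : E) ∈ N := by
        rw [show (z : E) = x - y by rw [← hyz', add_sub_cancel_left]]
        exact sub_mem hxN (hle hy)
      exact hxN' (hyz' ▸ add_mem hy (ih z this hz))
    obtain ⟨k, hk⟩ := isPowerTorsion_hull hf x
    obtain ⟨χ, hχ⟩ : ∃ χ : (_ ⧸ W) →ₗ[R] E, χ (W.mkQ ⟨x, hxt⟩) ≠ 0 := by
      have htor : LocCoh.IsPowerTorsion m (↥(LocCoh.torsionBy (m ^ (n + 1)) E) ⧸ W) :=
        isPowerTorsion_of_surjective_map (isPowerTorsion_of_injective_map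
          (isPowerTorsion_hull hf) _ (Submodule.subtype_injective _)) W.mkQ W.mkQ_surjective
      by_contra hall
      push Not at hall
      exact hxW ((Submodule.Quotient.mk_eq_zero W).1
        (applyₗ_injective_of_powerTorsion hf htor (by ext φ; simpa using hall φ)))
    obtain ⟨r, hr⟩ := exists_smul_eq hf (n + 1) (χ ∘ₗ W.mkQ)
    have hW0 : ∀ w : ↥(LocCoh.torsionBy (m ^ (n + 1)) E), w ∈ W → r • (w : E) = 0 := fun w hw => by
      rw [← hr w, LinearMap.comp_apply, Submodule.mkQ_apply, (Submodule.Quotient.mk_eq_zero W).2 hw,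
        map_zero]
    have hrn : r ∈ m ^ n := mem_pow_of_smul_eq_zero hf n fun e he =>
      hW0 ⟨e, Submodule.torsionBySet_le_torsionBySet_of_subset
        (Ideal.pow_le_pow_right n.le_succ) he⟩ (Submodule.mem_sup_right he)
    have hp : (⟨monomial n r, reesAlgebra.monomial_mem.2 hrn⟩ : reesAlgebra m) ∈ reesAnn m N' := by
      intro j y hy hyt
      rw [coeff_monomial]
      split_ifs with hj
      · subst hj
        exact hW0 ⟨y, hyt⟩ (Submodule.mem_sup_left hy)
      · exact zero_smul _ _
    have h1 := h hp n x hxN hxt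
    rw [coeff_monomial, if_pos rfl] at h1
    exact hχ ((hr ⟨x, hxt⟩).trans h1)

theorem isArtinian_hull (hf : InjHull.IsInjectiveHull f) : IsArtinian R E := by
  have hanti : StrictMono fun N : Submodule R E => OrderDual.toDual (reesAnn m N) := by
    intro N' N hlt
    refine lt_of_le_of_ne ?_ fun heq => hlt.not_ge (le_of_reesAnn_le hf hlt.le
      (le_of_eq (OrderDual.toDual.injective heq)))
    exact fun p hp n x hx => hp n x (hlt.le hx)
  exact hanti.wellFoundedLT

section Local

omit [IsNoetherianRing R] [m.IsMaximal] in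
variable [IsLocalRing R] in
theorem isPowerTorsion_of_isArtinian {M : Type u} [AddCommGroup M] [Module R M]
    [IsArtinian R M] : LocCoh.IsPowerTorsion (IsLocalRing.maximalIdeal R) M := by
  intro x
  let φ := LinearMap.toSpanSingleton R M x
  have h1 : IsArtinian R (R ⧸ LinearMap.ker φ) :=
    isArtinian_of_injective ((LinearMap.ker φ).liftQ φ le_rfl)
      (LinearMap.ker_eq_bot.1 (Submodule.ker_liftQ_eq_bot _ _ _ le_rfl))
  have : IsArtinianRing (R ⧸ LinearMap.ker φ) := isArtinian_of_tower R h1
  obtain ⟨n, hn⟩ := IsLocalRing.exists_maximalIdeal_pow_le_of_isArtinianRing_quotient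
    (LinearMap.ker φ)
  exact ⟨n, fun a ha => LinearMap.mem_ker.1 (hn ha)⟩

end Local

omit [IsNoetherianRing R] in
theorem finite_socle_of_isArtinian {M : Type u} [AddCommGroup M] [Module R M] [IsArtinian R M] :
    Module.Finite (R ⧸ m) ↥(LocCoh.torsionBy m M) := by
  let _ : Field (R ⧸ m) := Ideal.Quotient.field m
  have h1 : IsArtinian (R ⧸ m) ↥(LocCoh.torsionBy m M) :=
    isArtinian_of_tower R (inferInstanceAs (IsArtinian R ↥(LocCoh.torsionBy m M)))
  have h2 : IsSemisimpleModule (R ⧸ m) ↥(LocCoh.torsionBy m M) := inferInstance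
  exact ((IsSemisimpleModule.finite_tfae (R := R ⧸ m) (M := ↥(LocCoh.torsionBy m M))).out 0 2).2 h1

omit [IsNoetherianRing R] in
/-- A power torsion module with finite socle embeds in a finite power of the hull. -/
theorem exists_embedding_pi (hf : InjHull.IsInjectiveHull f) {M : Type u} [AddCommGroup M]
    [Module R M] (hM : LocCoh.IsPowerTorsion m M) (n : ℕ)
    [Module.Finite (R ⧸ m) ↥(LocCoh.torsionBy m M)]
    (hn : Module.finrank (R ⧸ m) ↥(LocCoh.torsionBy m M) = n) :
    ∃ g : M →ₗ[R] (Fin n → E), Function.Injective g := by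
  let _ : Field (R ⧸ m) := Ideal.Quotient.field m
  let b := Module.finBasisOfFinrankEq (R ⧸ m) ↥(LocCoh.torsionBy m M) hn
  let g₀ : ↥(LocCoh.torsionBy m M) →ₗ[R] (Fin n → E) :=
    LinearMap.pi fun i => f ∘ₗ (b.coord i).restrictScalars R
  have := hf.isInjective
  obtain ⟨g, hg⟩ := exists_extend (R := R) (I := Fin n → E) inferInstance
    (Submodule.subtype _) (Submodule.subtype_injective _) g₀
  refine ⟨g, injective_of_socle g hM fun x hx h0 => ?_⟩
  have h1 : g₀ ⟨x, hx⟩ = 0 := by rw [← hg]; exact h0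
  have h2 : b.repr ⟨x, hx⟩ = 0 := Finsupp.ext fun i =>
    hf.injective (by simpa [g₀] using congrFun h1 i)
  exact congrArg Subtype.val ((LinearEquiv.map_eq_zero_iff _).1 h2)

/-- Over a Noetherian ring, a power torsion module with finite socle is Artinian. -/
theorem isArtinian_of_socle_finite {M : Type u} [AddCommGroup M] [Module R M]
    (hM : LocCoh.IsPowerTorsion m M) [Module.Finite (R ⧸ m) ↥(LocCoh.torsionBy m M)] :
    IsArtinian R M := by
  obtain ⟨F, _, _, φ, hφ⟩ := exists_hull R (R ⧸ m)
  obtain ⟨g, hg⟩ := exists_embedding_pi hφ hM _ rfl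
  have := isArtinian_hull hφ
  exact isArtinian_of_injective g hg

omit [IsNoetherianRing R] [m.IsMaximal] in
/-- The dual of a finite module into an Artinian module is Artinian. -/
theorem isArtinian_linearMap [IsArtinian R E] (N : Type u) [AddCommGroup N] [Module R N]
    [Module.Finite R N] : IsArtinian R (N →ₗ[R] E) := by
  obtain ⟨n, s, hs⟩ := Module.Finite.exists_fin (R := R) (M := N)
  refine isArtinian_of_injective
    (LinearMap.pi fun i : Fin n => LinearMap.applyₗ (s i)) fun φ ψ h => ?_
  refine LinearMap.ext_on hs ?_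
  rintro _ ⟨i, rfl⟩
  exact congrFun h i

end Groth.Agent.InjHull18
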