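import Groth.Agent.InjHull18.Criterion
import Groth.Agent.InjHull18.Indec
import Mathlib.Algebra.Category.ModuleCat.ChangeOfRings
import Mathlib.RingTheory.Finiteness.Basic
import Mathlib.RingTheory.Ideal.GoingUp

/-!
# Coextension of the hull to a finite algebra
-/

universe u

open CategoryTheory

namespace Groth.Agent.InjHull18

variable (A B : Type u) [CommRing A] [CommRing B] [Algebra A B]
variable (E : Type u) [AddCommGroup E] [Module A E]

/-- `Hom_A(B, E)` as a `B`-module. -/
abbrev Coext : Type u :=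
  ((ModuleCat.coextendScalars (algebraMap A B)).obj (ModuleCat.of A E) : ModuleCat B)

theorem injective_coext (hE : Module.Injective A E) : Module.Injective B (Coext A B E) :=
  have := hE
  Module.injective_module_of_injective_object B _
    (inj := Adjunction.map_injective (ModuleCat.restrictCoextendScalarsAdj (algebraMap A B)) _
      (Module.injective_object_of_injective_module A E))

variable {A B E}

/-- An element of the coextension as a linear map. -/
noncomputable def toHom (φ : Coext A B E) : B →ₗ[A] E where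
  toFun b := ModuleCat.CoextendScalars.equiv (algebraMap A B) (ModuleCat.of A E) φ b
  map_add' x y := map_add (ModuleCat.CoextendScalars.equiv (algebraMap A B) (ModuleCat.of A E) φ) x y
  map_smul' c x := by
    rw [Algebra.smul_def]
    exact LinearMap.map_smul (ModuleCat.CoextendScalars.equiv (algebraMap A B) (ModuleCat.of A E) φ) c x

/-- A linear map as an element of the coextension. -/
noncomputable def ofHom (g : B →ₗ[A] E) : Coext A B E :=
  (ModuleCat.CoextendScalars.equiv (algebraMap A B) (ModuleCat.of A E)).symm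
    { toFun := fun b => g b
      map_add' := fun x y => map_add g x y
      map_smul' := fun c x => by
        show g (algebraMap A B c * (show B from x)) = c • g x
        rw [← Algebra.smul_def, map_smul] }

@[simp]
theorem toHom_ofHom (g : B →ₗ[A] E) : toHom (ofHom g) = g := rfl

theorem toHom_injective : Function.Injective (toHom : Coext A B E → (B →ₗ[A] E)) := fun φ ψ h => by
  apply (ModuleCat.CoextendScalars.equiv (algebraMap A B) (ModuleCat.of A E)).injective
  refine LinearMap.ext fun b => ?_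
  exact LinearMap.congr_fun h b

@[simp]
theorem toHom_smul (b : B) (φ : Coext A B E) (x : B) : toHom (b • φ) x = toHom φ (x * b) := rfl

@[simp]
theorem toHom_zero (x : B) : toHom (0 : Coext A B E) x = 0 := rfl

theorem smul_eq_zero_iff_toHom (b : B) (φ : Coext A B E) :
    b • φ = 0 ↔ ∀ x, toHom φ (x * b) = 0 := by
  refine ⟨fun h x => ?_, fun h => toHom_injective (LinearMap.ext fun x => ?_)⟩
  · rw [← toHom_smul, h, toHom_zero]
  · rw [toHom_smul, h, toHom_zero]

variable [IsLocalRing A] [IsNoetherianRing A] [Module.Finite A B]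
variable {f : IsLocalRing.ResidueField A →ₗ[A] E}

theorem map_pow_kills (hf : InjHull.IsInjectiveHull f) (φ : Coext A B E) :
    ∃ N : ℕ, ∀ a ∈ IsLocalRing.maximalIdeal A ^ N, algebraMap A B a • φ = 0 := by
  obtain ⟨N, hN⟩ := exists_pow_smul_eq_zero (M := ↥(LinearMap.range (toHom φ)))
    (isPowerTorsion_of_injective_map
      (isPowerTorsion_hull (m := IsLocalRing.maximalIdeal A) (f := f) hf) _
      (Submodule.subtype_injective _))
  refine ⟨N, fun a ha => (smul_eq_zero_iff_toHom _ _).2 fun x => ?_⟩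
  rw [mul_comm, ← Algebra.smul_def, map_smul]
  exact congrArg Subtype.val (hN a ha ⟨_, LinearMap.mem_range_self _ x⟩)

theorem maximalIdeal_le_comap (n : Ideal B) [n.IsMaximal] :
    IsLocalRing.maximalIdeal A ≤ n.comap (algebraMap A B) := by
  have : Algebra.IsIntegral A B := Algebra.IsIntegral.of_finite A B
  exact (IsLocalRing.eq_maximalIdeal (Ideal.isMaximal_comap_of_isIntegral_of_isMaximal (R := A) n)).ge

/-- The socle of the coextension at a maximal ideal is spanned by one element. -/
theorem exists_socle_generator (hf : InjHull.IsInjectiveHull f) (n : Ideal B) [n.IsMaximal] :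
    ∃ ψ : Coext A B E, ψ ≠ 0 ∧ ψ ∈ LocCoh.torsionBy n (Coext A B E) ∧
      LocCoh.torsionBy n (Coext A B E) ≤ Submodule.span B {ψ} := by
  let N : Submodule A B := n.restrictScalars A
  have hkill : ∀ a ∈ IsLocalRing.maximalIdeal A, ∀ x : B ⧸ N, a • x = 0 := fun a ha x => by
    obtain ⟨b, rfl⟩ := Submodule.mkQ_surjective N x
    rw [← map_smul, Submodule.mkQ_apply, Submodule.Quotient.mk_eq_zero, Algebra.smul_def]
    exact n.mul_mem_right b (maximalIdeal_le_comap (A := A) n ha)
  let one' : B ⧸ N := N.mkQ 1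
  have hone : one' ≠ 0 := fun h =>
    Ideal.IsMaximal.ne_top ‹_› ((Ideal.eq_top_iff_one n).2 ((Submodule.Quotient.mk_eq_zero N).1 h))
  obtain ⟨χ, hχ⟩ := exists_map_ne_zero_local hf hone
  let ψ : Coext A B E := ofHom (χ ∘ₗ N.mkQ)
  have hψn : ψ ∈ LocCoh.torsionBy n (Coext A B E) :=
    (Submodule.mem_torsionBySet_iff _ _).2 fun ⟨b, hb⟩ => (smul_eq_zero_iff_toHom _ _).2 fun x => by
      show χ (N.mkQ (x * b)) = 0
      rw [Submodule.mkQ_apply, (Submodule.Quotient.mk_eq_zero N).2 (n.mul_mem_left x hb), map_zero]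
  refine ⟨ψ, fun h => hχ ?_, hψn, fun φ hφ => ?_⟩
  · exact (LinearMap.congr_fun (congrArg toHom h) 1)
  let Φ₀ : B →ₗ[A] ((B ⧸ N) →ₗ[A] E) :=
    { toFun := fun c => χ ∘ₗ N.mapQ N (LinearMap.mulRight A c) fun x hx => n.mul_mem_right c hx
      map_add' := fun c d => Submodule.linearMap_qext _ (LinearMap.ext fun x => by
        show χ (N.mkQ (x * (c + d))) = χ (N.mkQ (x * c)) + χ (N.mkQ (x * d))
        rw [mul_add, map_add, map_add])
      map_smul' := fun a c => Submodule.linearMap_qext _ (LinearMap.ext fun x => by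
        show χ (N.mkQ (x * (a • c))) = a • χ (N.mkQ (x * c))
        rw [mul_smul_comm, map_smul, map_smul]) }
  have hΦle : N ≤ LinearMap.ker Φ₀ := fun c hc => Submodule.linearMap_qext _ (LinearMap.ext fun x => by
    show χ (N.mkQ (x * c)) = 0
    rw [Submodule.mkQ_apply, (Submodule.Quotient.mk_eq_zero N).2 (n.mul_mem_left x hc), map_zero])
  let Φ := N.liftQ Φ₀ hΦle
  have hΦinj : Function.Injective Φ := by
    refine (injective_iff_map_eq_zero Φ).2 fun z hz => ?_
    obtain ⟨c, rfl⟩ := Submodule.mkQ_surjective N z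
    refine (Submodule.Quotient.mk_eq_zero N).2 ?_
    by_contra hc
    obtain ⟨d, i, hi, hd⟩ := Ideal.IsMaximal.exists_inv ‹_› (show c ∉ n from hc)
    refine hχ ?_
    have h1 : χ (N.mkQ (d * c)) = 0 := LinearMap.congr_fun hz (N.mkQ d)
    show χ (N.mkQ 1) = 0
    rw [← hd, map_add, Submodule.mkQ_apply N i, (Submodule.Quotient.mk_eq_zero N).2 hi, add_zero, h1]
  have hfl : IsFiniteLength A (B ⧸ N) := by
    have : Module.Finite (A ⧸ IsLocalRing.maximalIdeal A) ↥(LocCoh.torsionBy
        (IsLocalRing.maximalIdeal A) (B ⧸ N)) := by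
      have hfin : Module.Finite A ↥(LocCoh.torsionBy (IsLocalRing.maximalIdeal A) (B ⧸ N)) :=
        inferInstance
      exact Module.Finite.of_restrictScalars_finite A _ _
    exact isFiniteLength_iff_isNoetherian_isArtinian.2 ⟨inferInstance,
      isArtinian_of_socle_finite (m := IsLocalRing.maximalIdeal A) (isPowerTorsion_of_killed hkill)⟩
  have hlen := length_linearMap (m := IsLocalRing.maximalIdeal A) (f := f) hf hfl
    (isPowerTorsion_of_killed hkill)
  have hdual : IsFiniteLength A ((B ⧸ N) →ₗ[A] E) :=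
    Module.length_ne_top_iff.1 (by rw [hlen]; exact Module.length_ne_top_iff.2 hfl)
  obtain ⟨h1, h2⟩ := isFiniteLength_iff_isNoetherian_isArtinian.1 hdual
  have hsurj : LinearMap.range Φ = ⊤ := by
    by_contra hne
    refine absurd (Submodule.length_lt hne) ?_
    rw [← (LinearEquiv.ofInjective Φ hΦinj).length_eq, hlen]
    exact lt_irrefl _
  obtain ⟨z, hz⟩ := LinearMap.range_eq_top.1 hsurj (N.liftQ (toHom φ) fun b hb => by
    have h3 := (smul_eq_zero_iff_toHom _ _).1
      ((Submodule.mem_torsionBySet_iff _ _).1 hφ ⟨b, hb⟩) 1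
    rwa [one_mul] at h3)
  obtain ⟨c, rfl⟩ := Submodule.mkQ_surjective N z
  refine Submodule.mem_span_singleton.2 ⟨c, toHom_injective (LinearMap.ext fun x => ?_)⟩
  rw [toHom_smul]
  exact LinearMap.congr_fun hz (N.mkQ x)

/-- Elements killed by an ideal comaximal to `n`. -/
def coprimeKilled {R : Type u} [CommRing R] (T : Type u) [AddCommGroup T] [Module R T]
    (n : Ideal R) : Submodule R T where
  carrier := {φ | ∃ I : Ideal R, I ⊔ n = ⊤ ∧ ∀ b ∈ I, b • φ = 0}
  zero_mem' := ⟨⊤, top_sup_eq _, fun b _ => smul_zero b⟩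
  add_mem' {x y} hx hy := by
    obtain ⟨I, hI, hx⟩ := hx
    obtain ⟨I', hI', hy⟩ := hy
    refine ⟨I * I', by rw [Ideal.mul_sup_eq_of_coprime_left hI, hI'], fun b hb => ?_⟩
    rw [smul_add, hx b (Ideal.mul_le_left hb), hy b (Ideal.mul_le_right hb), add_zero]
  smul_mem' c x hx := by
    obtain ⟨I, hI, hx⟩ := hx
    exact ⟨I, hI, fun b hb => by rw [smul_comm, hx b hb, smul_zero]⟩

theorem sum_of_coprime_disjoint {R T : Type u} [CommRing R] [AddCommGroup T] [Module R T]
    (n : MaximalSpectrum R) {x : T}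
    (hx : ∃ k : ℕ, ∀ b ∈ n.asIdeal ^ k, b • x = 0)
    (hx' : ∃ I : Ideal R, I ⊔ n.asIdeal = ⊤ ∧ ∀ b ∈ I, b • x = 0) : x = 0 := by
  obtain ⟨k, hk⟩ := hx
  obtain ⟨I, hI, hIk⟩ := hx'
  obtain ⟨a, ha, b, hb, hab⟩ := Submodule.mem_sup.1 ((Ideal.eq_top_iff_one _).1
    (Ideal.sup_pow_eq_top (n := k) hI))
  rw [← one_smul R x, ← hab, add_smul, hIk a ha, hk b hb, add_zero]

open Classical in
/-- An injective module with point associated primes maximal is the sum of its torsion parts. -/
theorem decomposition_of_injective {R T : Type u} [CommRing R] [IsNoetherianRing R]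
    [AddCommGroup T] [Module R T] (hT : Module.Injective R T)
    (hmax : ∀ (P : Ideal R) (x : T), P.IsPrime → (∀ b, b • x = 0 ↔ b ∈ P) → P.IsMaximal)
    (hsoc : ∀ n : MaximalSpectrum R, ∃ ψ : T, ψ ≠ 0 ∧ ψ ∈ LocCoh.torsionBy n.asIdeal T ∧
      LocCoh.torsionBy n.asIdeal T ≤ Submodule.span R {ψ}) :
    ∃ J : MaximalSpectrum R → Submodule R T, iSupIndep J ∧ iSup J = ⊤ ∧
      ∀ n : MaximalSpectrum R, ∃ g : (R ⧸ n.asIdeal) →ₗ[R] J n, InjHull.IsInjectiveHull g := by
  let J : MaximalSpectrum R → Submodule R T := fun n =>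
    ⨆ k : ℕ, Submodule.torsionBySet R T ((n.asIdeal ^ k : Ideal R) : Set R)
  have hJinj : ∀ n, Module.Injective R (J n) := fun n => injective_gamma hT _
  have hindep : iSupIndep J := fun n => by
    let S : Submodule R T := coprimeKilled T n.asIdeal
    have hle : (⨆ (j) (_ : j ≠ n), J j) ≤ S := iSup₂_le fun j hj φ hφ => by
      obtain ⟨k, hk⟩ := mem_iSup_torsion.1 hφ
      refine ⟨j.asIdeal ^ k, Ideal.pow_sup_eq_top ?_, hk⟩
      exact Ideal.IsMaximal.coprime_of_ne j.isMaximal n.isMaximal
        fun h => hj (MaximalSpectrum.ext h)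
    exact Disjoint.mono_right hle (Submodule.disjoint_def.2 fun φ hφ hS =>
      sum_of_coprime_disjoint n (mem_iSup_torsion.1 hφ) hS)
  refine ⟨J, hindep, ?_, fun n => ?_⟩
  · have hsum : Module.Injective R (DirectSum (MaximalSpectrum R) fun n => ↥(J n)) :=
      injective_directSum _ hJinj
    obtain ⟨Q, hQ⟩ := exists_isCompl_range hsum (DirectSum.coeLinearMap J)
      hindep.dfinsupp_lsum_injective
    rw [DirectSum.range_coeLinearMap] at hQ
    suffices hQ0 : Q = ⊥ by simpa [hQ0] using hQ.sup_eq_top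
    by_contra hQ0
    have : Nontrivial Q := Submodule.nontrivial_iff_ne_bot.2 hQ0
    obtain ⟨P, hP, φ, hφ⟩ := exists_prime_embedding (R := R) (M := Q)
    let x : Q := φ (Ideal.Quotient.mk P 1)
    have hann : ∀ b : R, b • (x : T) = 0 ↔ b ∈ P := fun b => by
      have h0 : b • Ideal.Quotient.mk P 1 = Ideal.Quotient.mk P b := by
        rw [← Ideal.Quotient.mk_eq_mk, ← Submodule.Quotient.mk_smul, smul_eq_mul, mul_one]
        rfl
      rw [← Submodule.coe_smul, ← map_smul, h0, Submodule.coe_eq_zero,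
        map_eq_zero_iff φ hφ, Ideal.Quotient.eq_zero_iff_mem]
    have hPmax := hmax P x hP hann
    have hxJ : (x : T) ∈ iSup J := Submodule.mem_iSup_of_mem ⟨P, hPmax⟩
      (mem_iSup_torsion.2 ⟨1, fun b hb => (hann b).2 (by simpa using hb)⟩)
    have hx0 : (x : T) = 0 := (Submodule.eq_bot_iff _).1 hQ.inf_eq_bot _ ⟨hxJ, x.2⟩
    exact hP.ne_top ((Ideal.eq_top_iff_one P).2 ((hann 1).1 (by rw [hx0, smul_zero])))
  · have := n.isMaximal
    obtain ⟨ψ, hψ0, hψn, hψspan⟩ := hsoc n
    have hψJ : ψ ∈ J n := mem_iSup_torsion.2 ⟨1, fun b hb =>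
      (Submodule.mem_torsionBySet_iff _ _).1 hψn ⟨b, by simpa using hb⟩⟩
    refine (exists_hull_of_socle n.asIdeal (hJinj n) (isPowerTorsion_gamma _) (x₀ := ⟨ψ, hψJ⟩)
      (fun h => hψ0 (congrArg Subtype.val h))
      ((Submodule.mem_torsionBySet_iff _ _).2 fun b => Subtype.ext
        ((Submodule.mem_torsionBySet_iff _ _).1 hψn b)) fun φ hφ => ?_).imp fun g h => h.1
    obtain ⟨c, hc⟩ := Submodule.mem_span_singleton.1 (hψspan ((Submodule.mem_torsionBySet_iff _ _).2
      fun b => congrArg Subtype.val ((Submodule.mem_torsionBySet_iff _ _).1 hφ b)))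
    exact Submodule.mem_span_singleton.2 ⟨c, Subtype.ext hc⟩

/-- `Hom_A(B, E)` is the sum of the hulls of the residue fields of `B`, each occurring once. -/
theorem coext_decomposition (hf : InjHull.IsInjectiveHull f) :
    ∃ J : MaximalSpectrum B → Submodule B (Coext A B E), iSupIndep J ∧ iSup J = ⊤ ∧
      ∀ n : MaximalSpectrum B, ∃ g : (B ⧸ n.asIdeal) →ₗ[B] J n, InjHull.IsInjectiveHull g := by
  have : IsNoetherianRing B := IsNoetherianRing.of_finite A B
  refine decomposition_of_injective (injective_coext A B E hf.isInjective) (fun P x hP hann => ?_)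
    fun n => @exists_socle_generator A B _ _ _ E _ _ _ _ _ f hf n.asIdeal n.isMaximal
  obtain ⟨N, hN⟩ := map_pow_kills (A := A) hf x
  have hmP : IsLocalRing.maximalIdeal A ≤ P.comap (algebraMap A B) :=
    (hP.comap (algebraMap A B)).le_of_pow_le (n := N) fun a ha => (hann _).1 (hN a ha)
  have : Algebra.IsIntegral A B := Algebra.IsIntegral.of_finite A B
  refine Ideal.isMaximal_of_isIntegral_of_isMaximal_comap (R := A) P ?_
  rw [← Ideal.IsMaximal.eq_of_le (IsLocalRing.maximalIdeal.isMaximal A) (hP.comap _).ne_top hmP]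
  exact IsLocalRing.maximalIdeal.isMaximal A

end Groth.Agent.InjHull18
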