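import Groth.Agent.InjHull18.Artinian

/-!
# Recognising injective hulls of simple modules
-/

universe u v

namespace Groth.Agent.InjHull18

variable {R : Type u} [CommRing R] (m : Ideal R) [m.IsMaximal]
variable {E : Type u} [AddCommGroup E] [Module R E]

/-- An injective module with a nonzero element killed by `m` in every nonzero submodule's cyclic
socle is an injective hull of `R ⧸ m`. -/
theorem exists_hull_of_elem (hE : Module.Injective R E) {x₀ : E} (hx₀ : x₀ ≠ 0)
    (hm : x₀ ∈ LocCoh.torsionBy m E)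
    (hess : ∀ x : E, x ≠ 0 → ∃ r : R, r • x ∈ Submodule.span R {x₀} ∧ r • x ≠ 0) :
    ∃ g : (R ⧸ m) →ₗ[R] E, InjHull.IsInjectiveHull g ∧ g (Ideal.Quotient.mk m 1) = x₀ := by
  let g := (homQuotientEquiv m E).symm ⟨x₀, hm⟩
  have hg : ∀ r : R, g (Ideal.Quotient.mk m r) = r • x₀ := homQuotientEquiv_symm_mk m _
  refine ⟨g, ⟨isEssentialInj_iff.2 ⟨?_, fun x hx => ?_⟩, hE⟩, by rw [hg, one_smul]⟩
  · refine (injective_iff_map_eq_zero g).2 fun y hy => ?_
    obtain ⟨r, rfl⟩ := Ideal.Quotient.mk_surjective y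
    rw [hg] at hy
    refine Ideal.Quotient.eq_zero_iff_mem.2 ?_
    by_contra hrm
    obtain ⟨b, i, hi, hb⟩ := Ideal.IsMaximal.exists_inv ‹m.IsMaximal› hrm
    refine hx₀ ?_
    rw [← one_smul R x₀, ← hb, add_smul, mul_smul, hy, smul_zero,
      (Submodule.mem_torsionBySet_iff _ _).1 hm ⟨i, hi⟩, add_zero]
  · obtain ⟨r, hr, hr0⟩ := hess x hx
    obtain ⟨s, hs⟩ := Submodule.mem_span_singleton.1 hr
    exact ⟨r, ⟨Ideal.Quotient.mk m s, (hg s).trans hs⟩, hr0⟩

/-- The same with power torsion: it suffices that the socle be spanned by one element. -/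
theorem exists_hull_of_socle (hE : Module.Injective R E) (htor : LocCoh.IsPowerTorsion m E)
    {x₀ : E} (hx₀ : x₀ ≠ 0) (hm : x₀ ∈ LocCoh.torsionBy m E)
    (hsoc : LocCoh.torsionBy m E ≤ Submodule.span R {x₀}) :
    ∃ g : (R ⧸ m) →ₗ[R] E, InjHull.IsInjectiveHull g ∧ g (Ideal.Quotient.mk m 1) = x₀ :=
  exists_hull_of_elem m hE hx₀ hm fun x hx => by
    obtain ⟨r, hr, hr0⟩ := exists_socle_smul hx (htor x)
    exact ⟨r, hsoc hr, hr0⟩

theorem hull_iff_injective_torsion_simple [IsNoetherianRing R] :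
    (∃ f : (R ⧸ m) →ₗ[R] E, InjHull.IsInjectiveHull f) ↔
      (Module.Injective R E ∧ LocCoh.IsPowerTorsion m E ∧
        IsSimpleModule R ((R ⧸ m) →ₗ[R] E)) := by
  constructor
  · rintro ⟨f, hf⟩
    exact ⟨hf.isInjective, isPowerTorsion_hull hf, isSimpleModule_linearMap hf.toIsEssentialInj⟩
  · rintro ⟨hE, htor, hs⟩
    have hs' : IsSimpleModule R ↥(LocCoh.torsionBy m E) :=
      IsSimpleModule.congr (homQuotientEquiv m E).symm
    have := IsSimpleModule.nontrivial R ↥(LocCoh.torsionBy m E)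
    obtain ⟨⟨x, hx⟩, hx0⟩ := exists_ne (0 : ↥(LocCoh.torsionBy m E))
    obtain ⟨g, hg, -⟩ := exists_hull_of_socle m hE htor (x₀ := x)
      (fun h => hx0 (Subtype.ext h)) hx fun y hy => by
        obtain ⟨r, hr⟩ := Submodule.mem_span_singleton.1
          ((IsSimpleModule.span_singleton_eq_top R hx0).ge
            (Submodule.mem_top (x := (⟨y, hy⟩ : ↥(LocCoh.torsionBy m E)))))
        exact Submodule.mem_span_singleton.2 ⟨r, congrArg Subtype.val hr⟩
    exact ⟨g, hg⟩

end Groth.Agent.InjHull18
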