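import Groth.Agent.InjHull18.Artinian
import Mathlib.RingTheory.AdicCompletion.Algebra

/-!
# Endomorphisms of the hull, duality over complete local rings
-/

universe u

namespace Groth.Agent.InjHull18

variable {R : Type u} [CommRing R] [IsNoetherianRing R] {m : Ideal R} [m.IsMaximal]
variable {E : Type u} [AddCommGroup E] [Module R E] {f : (R ⧸ m) →ₗ[R] E}

/-- Scalars agreeing with an endomorphism on `E[m^n]`. -/
theorem exists_scalar_family (hf : InjHull.IsInjectiveHull f) (φ : Module.End R E) :
    ∃ r : ℕ → R, (∀ n, ∀ e ∈ LocCoh.torsionBy (m ^ n) E, φ e = r n • e) ∧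
      ∀ a b, a ≤ b → r a - r b ∈ m ^ a := by
  choose r hr using fun n => exists_smul_eq hf n (φ ∘ₗ Submodule.subtype _)
  have h : ∀ n, ∀ e ∈ LocCoh.torsionBy (m ^ n) E, φ e = r n • e := fun n e he => hr n ⟨e, he⟩
  refine ⟨r, h, fun a b hab => mem_pow_of_smul_eq_zero hf a fun e he => ?_⟩
  rw [sub_smul, ← h a e he, ← h b e (Submodule.torsionBySet_le_torsionBySet_of_subset
    (Ideal.pow_le_pow_right hab) he), sub_self]

/-- The family of quotient maps `End E → R ⧸ m^n`. -/
noncomputable def endToQuotient (hf : InjHull.IsInjectiveHull f) (n : ℕ) (φ : Module.End R E) :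
    R ⧸ m ^ n :=
  Ideal.Quotient.mk _ ((exists_scalar_family hf φ).choose n)

theorem endToQuotient_eq (hf : InjHull.IsInjectiveHull f) {n : ℕ} {φ : Module.End R E} {r : R}
    (h : ∀ e ∈ LocCoh.torsionBy (m ^ n) E, φ e = r • e) :
    endToQuotient hf n φ = Ideal.Quotient.mk _ r := by
  refine (Ideal.Quotient.mk_eq_mk_iff_sub_mem _ _).2 (mem_pow_of_smul_eq_zero hf n fun e he => ?_)
  rw [sub_smul, ← h e he, ← (exists_scalar_family hf φ).choose_spec.1 n e he, sub_self]

omit [m.IsMaximal] in
theorem exists_end_of_cauchy (hf : InjHull.IsInjectiveHull f) (r : ℕ → R)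
    (hr : ∀ a b, a ≤ b → r a - r b ∈ m ^ a) :
    ∃ φ : Module.End R E, ∀ n, ∀ e ∈ LocCoh.torsionBy (m ^ n) E, φ e = r n • e := by
  have htor : ∀ e : E, ∃ n : ℕ, e ∈ LocCoh.torsionBy (m ^ n) E := fun e =>
    (isPowerTorsion_hull hf e).imp fun n hn =>
      (Submodule.mem_torsionBySet_iff _ _).2 fun a => hn a.1 a.2
  choose d hd using htor
  have hmono : ∀ {a b : ℕ}, a ≤ b → LocCoh.torsionBy (m ^ a) E ≤ LocCoh.torsionBy (m ^ b) E :=
    fun hab => Submodule.torsionBySet_le_torsionBySet_of_subset (Ideal.pow_le_pow_right hab)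
  have key : ∀ (e : E) (n : ℕ), e ∈ LocCoh.torsionBy (m ^ n) E → r (d e) • e = r n • e := by
    intro e n hn
    have aux : ∀ a b, a ≤ b → e ∈ LocCoh.torsionBy (m ^ a) E → r a • e = r b • e :=
      fun a b hab ha => sub_eq_zero.1 (by
        rw [← sub_smul]; exact (Submodule.mem_torsionBySet_iff _ _).1 ha ⟨_, hr a b hab⟩)
    rcases le_total (d e) n with h | h
    · exact aux _ _ h (hd e)
    · exact (aux _ _ h hn).symm
  refine ⟨{ toFun := fun e => r (d e) • e, map_add' := fun e e' => ?_, map_smul' := fun c e => ?_ },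
    fun n e he => key e n he⟩
  · rw [key (e + e') (max (d e) (d e')) (add_mem (hmono (le_max_left _ _) (hd e))
      (hmono (le_max_right _ _) (hd e'))), smul_add, ← key e _ (hmono (le_max_left _ _) (hd e)),
      ← key e' _ (hmono (le_max_right _ _) (hd e'))]
  · rw [key (c • e) (d e) (Submodule.smul_mem _ c (hd e)), RingHom.id_apply, smul_comm]

theorem end_equiv_adicCompletion (hf : InjHull.IsInjectiveHull f) :
    Nonempty (Module.End R E ≃ₐ[R] AdicCompletion m R) := by
  let F : (n : ℕ) → Module.End R E →+* R ⧸ m ^ n := fun n =>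
    { toFun := endToQuotient hf n
      map_one' := (endToQuotient_eq hf (r := 1) fun e _ => (one_smul R e).symm).trans (map_one _)
      map_zero' := (endToQuotient_eq hf (r := 0) fun e _ => (zero_smul R e).symm).trans (map_zero _)
      map_add' := fun φ ψ => by
        obtain ⟨a, ha, -⟩ := exists_scalar_family hf φ
        obtain ⟨b, hb, -⟩ := exists_scalar_family hf ψ
        rw [endToQuotient_eq hf (ha n), endToQuotient_eq hf (hb n), ← map_add]
        exact endToQuotient_eq hf fun e he => by
          rw [LinearMap.add_apply, ha n e he, hb n e he, add_smul]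
      map_mul' := fun φ ψ => by
        obtain ⟨a, ha, -⟩ := exists_scalar_family hf φ
        obtain ⟨b, hb, -⟩ := exists_scalar_family hf ψ
        rw [endToQuotient_eq hf (ha n), endToQuotient_eq hf (hb n), ← map_mul]
        exact endToQuotient_eq hf fun e he => by
          rw [Module.End.mul_apply, hb n e he, map_smul, ha n e he, mul_smul, smul_comm] }
  have hF : ∀ {a b : ℕ} (hle : a ≤ b), (Ideal.Quotient.factorPow m hle).comp (F b) = F a := by
    intro a b hle
    ext φ
    obtain ⟨r, hr, hr'⟩ := exists_scalar_family hf φ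
    show Ideal.Quotient.factorPow m hle (endToQuotient hf b φ) = endToQuotient hf a φ
    rw [endToQuotient_eq hf (hr b), endToQuotient_eq hf (hr a), Ideal.Quotient.factorPow,
      Ideal.Quotient.factor_mk]
    exact ((Ideal.Quotient.mk_eq_mk_iff_sub_mem _ _).2 (hr' a b hle)).symm
  let Φ := AdicCompletion.liftRingHom m F hF
  refine ⟨AlgEquiv.ofBijective { Φ with commutes' := fun c => ?_ } ⟨fun φ ψ h => ?_, fun x => ?_⟩⟩
  · exact AdicCompletion.ext_evalₐ fun n => by
      show AdicCompletion.evalₐ m n (Φ _) = _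
      rw [AdicCompletion.evalₐ_liftRingHom, AlgHom.commutes]
      exact endToQuotient_eq hf fun e _ => rfl
  · ext e
    obtain ⟨n, hn⟩ := isPowerTorsion_hull hf e
    have he : e ∈ LocCoh.torsionBy (m ^ n) E :=
      (Submodule.mem_torsionBySet_iff _ _).2 fun a => hn a.1 a.2
    obtain ⟨a, ha, -⟩ := exists_scalar_family hf φ
    obtain ⟨b, hb, -⟩ := exists_scalar_family hf ψ
    have h1 : AdicCompletion.evalₐ m n (Φ φ) = AdicCompletion.evalₐ m n (Φ ψ) :=
      congrArg (AdicCompletion.evalₐ m n) h
    rw [AdicCompletion.evalₐ_liftRingHom, AdicCompletion.evalₐ_liftRingHom] at h1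
    have h2 : endToQuotient hf n φ = endToQuotient hf n ψ := h1
    rw [endToQuotient_eq hf (ha n), endToQuotient_eq hf (hb n)] at h2
    rw [ha n e he, hb n e he]
    exact sub_eq_zero.1 (by
      rw [← sub_smul]; exact hn _ ((Ideal.Quotient.mk_eq_mk_iff_sub_mem _ _).1 h2))
  · obtain ⟨c, rfl⟩ := AdicCompletion.mk_surjective m R x
    obtain ⟨φ, hφ⟩ := exists_end_of_cauchy hf c.val fun a b hab => by
      simpa [SModEq.sub_mem, Ideal.mul_top] using c.property hab
    refine ⟨φ, AdicCompletion.ext_evalₐ fun n => ?_⟩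
    show AdicCompletion.evalₐ m n (Φ φ) = _
    rw [AdicCompletion.evalₐ_liftRingHom, AdicCompletion.evalₐ_mk]
    exact endToQuotient_eq hf (hφ n)

/-- Over a complete ring every endomorphism of the hull is a scalar. -/
theorem exists_scalar_of_complete [IsAdicComplete m R] (hf : InjHull.IsInjectiveHull f)
    (φ : Module.End R E) : ∃ r : R, ∀ e, φ e = r • e := by
  obtain ⟨r, hr, hr'⟩ := exists_scalar_family hf φ
  obtain ⟨L, hL⟩ := IsPrecomplete.prec (I := m) (M := R) inferInstance (f := r) fun {a b} hab => by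
    rw [SModEq.sub_mem]; simpa [Ideal.mul_top] using hr' a b hab
  refine ⟨L, fun e => ?_⟩
  obtain ⟨n, hn⟩ := isPowerTorsion_hull hf e
  rw [hr n e ((Submodule.mem_torsionBySet_iff _ _).2 fun a => hn a.1 a.2)]
  refine sub_eq_zero.1 ?_
  rw [← sub_smul]
  exact hn _ (by have := SModEq.sub_mem.1 (hL n); simpa [Ideal.mul_top] using this)

/-- Over a complete ring, functionals on the dual of a finite module are evaluations. -/
theorem applyₗ_surjective_of_finite [IsAdicComplete m R] (hf : InjHull.IsInjectiveHull f)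
    {M : Type u} [AddCommGroup M] [Module R M] [Module.Finite R M] :
    Function.Surjective (LinearMap.applyₗ : M →ₗ[R] (M →ₗ[R] E) →ₗ[R] E) := by
  intro Ψ
  obtain ⟨n, s, hs⟩ := Module.Finite.exists_fin (R := R) (M := M)
  have hinj : Function.Injective
      (LinearMap.pi fun i : Fin n => LinearMap.applyₗ (R := R) (M₂ := E) (s i)) := fun φ ψ h => by
    refine LinearMap.ext_on hs ?_
    rintro _ ⟨i, rfl⟩
    exact congrFun h i
  obtain ⟨Θ, hΘ⟩ := exists_extend hf.isInjective _ hinj Ψ
  choose c hc using fun i : Fin n =>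
    exists_scalar_of_complete hf (Θ ∘ₗ LinearMap.single R (fun _ => E) i)
  refine ⟨∑ i, c i • s i, LinearMap.ext fun φ => ?_⟩
  have h1 : Θ (fun i => φ (s i)) = Ψ φ := LinearMap.congr_fun hΘ φ
  rw [← h1, LinearMap.applyₗ_apply_apply, map_sum]
  conv_rhs => rw [← Finset.univ_sum_single (fun i => φ (s i)), map_sum]
  exact Finset.sum_congr rfl fun i _ => by rw [map_smul]; exact (hc i (φ (s i))).symm

/-- Over a complete ring, the dual of an Artinian power torsion module is finite and reflexive. -/
theorem duality_artinian [IsAdicComplete m R] (hf : InjHull.IsInjectiveHull f) {M : Type u}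
    [AddCommGroup M] [Module R M] (htor : LocCoh.IsPowerTorsion m M) [IsArtinian R M] :
    Module.Finite R (M →ₗ[R] E) ∧
      Function.Bijective (LinearMap.applyₗ : M →ₗ[R] (M →ₗ[R] E) →ₗ[R] E) := by
  have := finite_socle_of_isArtinian (m := m) (M := M)
  obtain ⟨g, hg⟩ := exists_embedding_pi hf htor _ rfl
  generalize Module.finrank (R ⧸ m) ↥(LocCoh.torsionBy m M) = n at g hg
  have hgen : ∀ φ : (Fin n → E) →ₗ[R] E, ∃ c : Fin n → R, ∀ v, φ v = ∑ i, c i • v i := by
    intro φ
    choose c hc using fun i : Fin n =>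
      exists_scalar_of_complete hf (φ ∘ₗ LinearMap.single R (fun _ => E) i)
    refine ⟨c, fun v => ?_⟩
    conv_lhs => rw [← Finset.univ_sum_single v, map_sum]
    exact Finset.sum_congr rfl fun i _ => hc i (v i)
  let π : Fin n → (M →ₗ[R] E) := fun i => LinearMap.proj i ∘ₗ g
  have hspan : ∀ ψ : M →ₗ[R] E, ∃ c : Fin n → R, ψ = ∑ i, c i • π i := fun ψ => by
    obtain ⟨φ, hφ⟩ := exists_extend hf.isInjective g hg ψ
    obtain ⟨c, hc⟩ := hgen φ
    refine ⟨c, LinearMap.ext fun x => ?_⟩
    rw [← hφ, LinearMap.comp_apply, hc]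
    simp [π]
  refine ⟨Module.Finite.of_surjective (Fintype.linearCombination R π) fun ψ => ?_,
    applyₗ_injective_of_powerTorsion hf htor, fun Ψ => ?_⟩
  · obtain ⟨c, hc⟩ := hspan ψ
    exact ⟨c, by rw [hc, Fintype.linearCombination_apply]⟩
  · let v : Fin n → E := fun i => Ψ (π i)
    have hv : v ∈ LinearMap.range g := by
      by_contra hv
      let q := (LinearMap.range g).mkQ
      have hqtor : LocCoh.IsPowerTorsion m ((Fin n → E) ⧸ LinearMap.range g) := by
        refine isPowerTorsion_of_surjective_map (fun w => ?_) q (Submodule.mkQ_surjective _)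
        choose d hd using fun i => isPowerTorsion_hull hf (w i)
        exact ⟨Finset.univ.sup d, fun a ha => funext fun i =>
          hd i a (Ideal.pow_le_pow_right (Finset.le_sup (Finset.mem_univ i)) ha)⟩
      have h2 : ∀ χ : ((Fin n → E) ⧸ LinearMap.range g) →ₗ[R] E, χ (q v) = 0 := fun χ => by
        obtain ⟨c, hc⟩ := hgen (χ ∘ₗ q)
        have h3 : ∑ i, c i • π i = 0 := LinearMap.ext fun x => by
          have := hc (g x)
          rw [LinearMap.comp_apply, Submodule.mkQ_apply, (Submodule.Quotient.mk_eq_zero _).2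
            (LinearMap.mem_range_self g x), map_zero] at this
          simpa [π] using this.symm
        have h4 := congrArg Ψ h3
        rw [map_sum, map_zero] at h4
        rw [← LinearMap.comp_apply, hc]
        simpa [v] using h4
      exact hv ((Submodule.Quotient.mk_eq_zero _).1
        (applyₗ_injective_of_powerTorsion hf hqtor (LinearMap.ext fun χ => by
          rw [map_zero, LinearMap.zero_apply]; exact h2 χ)))
    obtain ⟨x, hx⟩ := hv
    refine ⟨x, LinearMap.ext fun ψ => ?_⟩
    obtain ⟨c, rfl⟩ := hspan ψ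
    simp only [LinearMap.applyₗ_apply_apply, map_sum, map_smul, π, LinearMap.comp_apply, LinearMap.proj_apply, hx, v]

end Groth.Agent.InjHull18
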