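import Groth.Agent.InjHull18.Coext
import Groth.Agent.LC15.Flat
import Groth.Agent.Gor18.Dualizing
import Groth.Agent.DR39.InjAmp
import Mathlib.Algebra.Polynomial.Basis
import Mathlib.CategoryTheory.Abelian.Injective.Dimension

/-!
# Modules over `A[X]` which are injective over `A` have injective dimension at most one
-/

set_option autoImplicit false
set_option linter.unusedSectionVars false

universe u

open CategoryTheory Abelian Polynomial TensorProduct

namespace Groth.Agent.InjHull18

variable {A : Type u} [CommRing A] (M : Type u) [AddCommGroup M] [Module A M] [Module A[X] M]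
  [IsScalarTower A A[X] M]

/-- `m ↦ (b ↦ b • m)` -/
noncomputable def coextUnit : M →ₗ[A[X]] Coext A A[X] M where
  toFun m := ofHom ((LinearMap.toSpanSingleton A[X] M m).restrictScalars A)
  map_add' m m' := toHom_injective (LinearMap.ext fun b => smul_add b m m')
  map_smul' c m := toHom_injective (LinearMap.ext fun b => smul_smul b c m)

theorem toHom_add {N : Type u} [AddCommGroup N] [Module A N] {B : Type u} [CommRing B] [Algebra A B]
    (φ ψ : Coext A B N) (y : B) : toHom (φ + ψ) y = toHom φ y + toHom ψ y := rfl

/-- the underlying linear map of `coextDiff φ` -/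
noncomputable def diffHom (φ : Coext A A[X] M) : A[X] →ₗ[A] M :=
  toHom φ ∘ₗ LinearMap.mulLeft A (X : A[X]) - (Algebra.lsmul A A M (X : A[X])) ∘ₗ toHom φ

theorem diffHom_apply (φ : Coext A A[X] M) (b : A[X]) :
    diffHom M φ b = toHom φ (X * b) - (X : A[X]) • toHom φ b := by
  simp only [diffHom, LinearMap.sub_apply, LinearMap.comp_apply, LinearMap.mulLeft_apply,
    Algebra.lsmul_coe]

/-- `φ ↦ (b ↦ φ (X b) - X φ b)` -/
noncomputable def coextDiff : Coext A A[X] M →ₗ[A[X]] Coext A A[X] M where
  toFun φ := ofHom (diffHom M φ)
  map_add' φ ψ := by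
    apply toHom_injective
    refine LinearMap.ext fun b => ?_
    rw [toHom_add, toHom_ofHom, toHom_ofHom, toHom_ofHom, diffHom_apply, diffHom_apply,
      diffHom_apply, toHom_add, toHom_add, smul_add]
    abel
  map_smul' c φ := by
    apply toHom_injective
    refine LinearMap.ext fun b => ?_
    rw [RingHom.id_apply, toHom_smul, toHom_ofHom, toHom_ofHom, diffHom_apply, diffHom_apply,
      toHom_smul, toHom_smul, mul_assoc]

theorem toHom_coextDiff (φ : Coext A A[X] M) (b : A[X]) :
    toHom (coextDiff M φ) b = toHom φ (X * b) - (X : A[X]) • toHom φ b := by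
  show toHom (ofHom (diffHom M φ)) b = _
  rw [toHom_ofHom, diffHom_apply]

theorem toHom_coextUnit (m : M) (b : A[X]) : toHom (coextUnit M m) b = b • m := rfl

theorem coextUnit_injective : Function.Injective (coextUnit (A := A) M) := fun m m' h => by
  have := congrArg (fun φ => toHom φ (1 : A[X])) h
  simpa [toHom_coextUnit] using this

theorem coext_exact : Function.Exact (coextUnit (A := A) M) (coextDiff (A := A) M) := fun φ => by
  constructor
  · intro h
    have hX : ∀ b, toHom φ (X * b) = (X : A[X]) • toHom φ b := fun b => by
      have := congrArg (fun ψ => toHom ψ b) h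
      rwa [toHom_coextDiff, toHom_zero, sub_eq_zero] at this
    refine ⟨toHom φ 1, toHom_injective ((Polynomial.basisMonomials A).ext fun n => ?_)⟩
    simp only [Polynomial.coe_basisMonomials]
    rw [← X_pow_eq_monomial, toHom_coextUnit]
    induction n with
    | zero => simp
    | succ n ih => rw [pow_succ', mul_smul, ih, hX]
  · rintro ⟨m, rfl⟩
    exact toHom_injective (LinearMap.ext fun b => by
      rw [toHom_coextDiff, toHom_coextUnit, toHom_coextUnit, mul_smul, sub_self, toHom_zero])

theorem coextDiff_surjective : Function.Surjective (coextDiff (A := A) M) := fun ψ => by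
  let v : ℕ → M := fun n => Nat.rec 0 (fun k vk => toHom ψ (X ^ k) + (X : A[X]) • vk) n
  let φ := (Polynomial.basisMonomials A).constr A v
  refine ⟨ofHom φ, toHom_injective ((Polynomial.basisMonomials A).ext fun n => ?_)⟩
  have hφ : ∀ k, φ (X ^ k) = v k := fun k => by
    rw [X_pow_eq_monomial, show monomial k (1 : A) = Polynomial.basisMonomials A k from
      (congrFun (Polynomial.coe_basisMonomials (R := A)) k).symm]
    exact (Polynomial.basisMonomials A).constr_basis A v k
  simp only [Polynomial.coe_basisMonomials]
  rw [← X_pow_eq_monomial, toHom_coextDiff, toHom_ofHom,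
    ← pow_succ', hφ, hφ]
  exact add_sub_cancel_right _ _

theorem injDimLE_one_of_injective_base (h : Module.Injective A M) :
    HasInjectiveDimensionLE (ModuleCat.of A[X] M) 1 := by
  have hinj : Injective (ModuleCat.of A[X] (Coext A A[X] M)) :=
    Module.injective_object_of_injective_module (inj := injective_coext A A[X] M h) _ _
  have hS := Gor18.shortExact_of (coextUnit_injective (A := A) M) (coext_exact (A := A) M)
    (coextDiff_surjective (A := A) M)
  have : Injective (ModuleCat.of A[X] (Coext A A[X] M)) := hinj
  exact (hS.hasInjectiveDimensionLT_X₃_iff 0 hinj).1 (injective_iff_hasInjectiveDimensionLT_one.1 hinj)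

theorem injAmplitude_polynomial (A : Type u) [CommRing A] [IsNoetherianRing A] (E : Type u)
    [AddCommGroup E] [Module A E] [Module.Injective A E] :
    DRing.HasInjAmplitudeIn A[X] 0 1 (Dual.inD A[X] (A[X] ⊗[A] E)) := by
  have := injDimLE_one_of_injective_base (A[X] ⊗[A] E) (LC15.injective_tensor A[X] E)
  refine DR39.ia_of_ext 0 1 fun I i hi => ?_
  rcases hi with hi | hi
  · exact Gor18.subsingleton_hom_shift_neg_inD _ _ i hi
  · lift i to ℕ using by omega with m
    exact (Gor18.subsingleton_ext_iff_hom _ _ m).1
      (HasInjectiveDimensionLT.subsingleton _ 2 m (by omega) _)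

end Groth.Agent.InjHull18
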