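import Groth.Agent.LC15.Flat
import Mathlib.RingTheory.Localization.AtPrime.Basic
import Mathlib.RingTheory.Localization.Ideal

/-!
# Injectivity tested at primes; unramified flat base change of injectives
-/

set_option autoImplicit false
set_option linter.unusedSectionVars false

universe u

open TensorProduct

namespace Groth.Agent.InjHull18

variable {B : Type u} [CommRing B] [IsNoetherianRing B] {M : Type u} [AddCommGroup M] [Module B M]

/-- Glue a map on `J` with a prescribed value on `a`. -/
theorem exists_map_sup {J : Ideal B} (φ : J →ₗ[B] M) (a : B) (m : M)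
    (h : ∀ r (hr : r * a ∈ J), φ ⟨r * a, hr⟩ = r • m) :
    ∃ χ : ↥(J ⊔ Ideal.span {a}) →ₗ[B] M,
      ∀ (x : B) (hx : x ∈ J), χ ⟨x, Ideal.mem_sup_left hx⟩ = φ ⟨x, hx⟩ := by
  classical
  have hdec : ∀ z : ↥(J ⊔ Ideal.span {a}), ∃ x : J, ∃ r : B, (z : B) = x + r * a := fun z => by
    obtain ⟨x, hx, y, hy, e⟩ := Submodule.mem_sup.1 z.2
    obtain ⟨r, rfl⟩ := Ideal.mem_span_singleton'.1 hy
    exact ⟨⟨x, hx⟩, r, e.symm⟩
  choose xf rf hf using hdec
  have hwd : ∀ (z : ↥(J ⊔ Ideal.span {a})) (x : J) (r : B), (z : B) = x + r * a →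
      φ (xf z) + rf z • m = φ x + r • m := by
    intro z x r e
    have h1 : (rf z - r) * a = ((x - xf z : J) : B) := by
      have := (hf z).symm.trans e
      simp only [Submodule.coe_sub]
      linear_combination this
    have hr : (rf z - r) * a ∈ J := h1 ▸ (x - xf z).2
    have h2 := h _ hr
    rw [show (⟨(rf z - r) * a, hr⟩ : J) = x - xf z from Subtype.ext h1, map_sub, sub_smul] at h2
    linear_combination (norm := abel) h2.symm
  refine ⟨{ toFun := fun z => φ (xf z) + rf z • m
            map_add' := fun z z' => ?_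
            map_smul' := fun c z => ?_ }, fun x hx => ?_⟩
  · rw [hwd (z + z') (xf z + xf z') (rf z + rf z') (by
      simp only [Submodule.coe_add, hf z, hf z']; ring), map_add, add_smul]
    abel
  · rw [hwd (c • z) (c • xf z) (c * rf z) (by
      simp only [Submodule.coe_smul, smul_eq_mul, hf z]; ring), map_smul, mul_smul, RingHom.id_apply,
      smul_add]
  · show φ (xf _) + rf _ • m = _
    rw [hwd ⟨x, Ideal.mem_sup_left hx⟩ ⟨x, hx⟩ 0 (by simp), zero_smul, add_zero]

/-- A module is injective if, for every prime, every map from it extends up to a unit at the prime. -/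
theorem injective_of_primes
    (H : ∀ (q : Ideal B), q.IsPrime → ∀ φ : q →ₗ[B] M,
      ∃ s : B, s ∉ q ∧ ∃ m : M, ∀ x : q, s • φ x = (x : B) • m) :
    Module.Injective B M := by
  refine Module.Baer.injective ?_
  suffices ∀ J : Ideal B, ∀ φ : J →ₗ[B] M, ∃ m : M, ∀ x : J, φ x = (x : B) • m by
    intro J φ
    obtain ⟨m, hm⟩ := this J φ
    exact ⟨LinearMap.toSpanSingleton B M m, fun x hx => by simpa using (hm ⟨x, hx⟩).symm⟩
  intro J
  induction J using WellFoundedGT.induction with
  | _ J ih =>
  intro φ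
  -- it suffices to glue along an element outside `J`
  have glue : ∀ a : B, a ∉ J → ∀ m₁ : M, (∀ r (hr : r * a ∈ J), φ ⟨r * a, hr⟩ = r • m₁) →
      ∃ m : M, ∀ x : J, φ x = (x : B) • m := fun a ha m₁ h => by
    obtain ⟨χ, hχ⟩ := exists_map_sup φ a m₁ h
    obtain ⟨m, hm⟩ := ih _ (lt_of_le_of_ne le_sup_left fun e => ha (e ▸
      Ideal.mem_sup_right (Ideal.mem_span_singleton_self a))) χ
    exact ⟨m, fun x => (hχ x.1 x.2).symm.trans (hm _)⟩
  by_cases htop : J = ⊤
  · exact ⟨φ ⟨1, htop ▸ Submodule.mem_top⟩, fun x => by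
      rw [← map_smul]; congr 1; exact Subtype.ext (by simp)⟩
  by_cases hp : J.IsPrime
  · obtain ⟨s, hs, m, hm⟩ := H J hp φ
    refine glue s hs m fun r hr => ?_
    have hrJ : r ∈ J := (hp.mem_or_mem hr).resolve_right hs
    rw [show (⟨r * s, hr⟩ : J) = s • (⟨r, hrJ⟩ : J) from Subtype.ext (mul_comm r s), map_smul]
    exact hm ⟨r, hrJ⟩
  · obtain ⟨a, b, hab, ha, hb⟩ : ∃ a b : B, a * b ∈ J ∧ a ∉ J ∧ b ∉ J := by
      by_contra hcon
      push Not at hcon
      exact hp ⟨htop, fun {a b} h => or_iff_not_imp_left.2 (hcon a b h)⟩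
    let K : Ideal B := J.colon ({a} : Set B)
    have hJK : J < K := by
      refine lt_of_le_of_ne (fun x hx => Submodule.mem_colon_singleton.2 (J.mul_mem_right a hx))
        fun e => hb ?_
      rw [e, Submodule.mem_colon_singleton, smul_eq_mul, mul_comm]
      exact hab
    let ψ : K →ₗ[B] M := φ ∘ₗ
      ((LinearMap.toSpanSingleton B B a).restrict fun x hx => Submodule.mem_colon_singleton.1 hx)
    obtain ⟨m₁, hm₁⟩ := ih K hJK ψ
    exact glue a ha m₁ fun r hr => hm₁ ⟨r, Submodule.mem_colon_singleton.2 hr⟩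

theorem exists_smul_mem_of_map_eq {A : Type u} [CommRing A] [Algebra A B] (q : Ideal B) [q.IsPrime]
    (J : Ideal B) (h : J.map (algebraMap B (Localization.AtPrime q)) =
      IsLocalRing.maximalIdeal (Localization.AtPrime q)) :
    ∃ s : B, s ∉ q ∧ ∀ x ∈ q, s * x ∈ J := by
  classical
  obtain ⟨t, ht⟩ := (IsNoetherian.noetherian q : q.FG)
  have hx : ∀ x ∈ t, ∃ s : B, s ∉ q ∧ s * x ∈ J := fun x hx => by
    have : algebraMap B (Localization.AtPrime q) x ∈ J.map (algebraMap B (Localization.AtPrime q)) := by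
      rw [h]
      exact (IsLocalization.AtPrime.to_map_mem_maximal_iff _ q x).2 (ht ▸ Submodule.subset_span hx)
    obtain ⟨s, hs, hsx⟩ :=
      (IsLocalization.algebraMap_mem_map_algebraMap_iff q.primeCompl _ J x).1 this
    exact ⟨s, hs, hsx⟩
  choose! s hs hsx using hx
  refine ⟨∏ x ∈ t, s x, fun hmem => ?_, fun x hx => ?_⟩
  · obtain ⟨x, hxt, hxq⟩ := (Ideal.IsPrime.prod_mem_iff).1 hmem
    exact hs x hxt hxq
  · rw [← ht] at hx
    induction hx using Submodule.span_induction with
    | mem x hx =>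
      rw [← Finset.mul_prod_erase _ _ (Finset.mem_coe.1 hx), mul_right_comm]
      exact J.mul_mem_right _ (hsx x hx)
    | zero => simp
    | add x y _ _ hx hy => rw [mul_add]; exact add_mem hx hy
    | smul c x _ hx => rw [smul_eq_mul, mul_left_comm]; exact J.mul_mem_left c hx

theorem injective_baseChange_unramified {A : Type u} [CommRing A] [Algebra A B]
    [IsNoetherianRing A] [Module.Flat A B]
    (h : ∀ q : PrimeSpectrum B, Ideal.map (algebraMap B (Localization.AtPrime q.asIdeal))
      ((q.asIdeal.comap (algebraMap A B)).map (algebraMap A B)) =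
        IsLocalRing.maximalIdeal (Localization.AtPrime q.asIdeal))
    (I : Type u) [AddCommGroup I] [Module A I] [Module.Injective A I] :
    Module.Injective B (B ⊗[A] I) := by
  have hinj : Module.Injective A (B ⊗[A] I) := LC15.injective_tensor B I
  refine injective_of_primes fun q hq φ => ?_
  let p := q.comap (algebraMap A B)
  obtain ⟨s, hs, hsq⟩ := exists_smul_mem_of_map_eq (A := A) q (p.map (algebraMap A B)) (h ⟨q, hq⟩)
  refine ⟨s, hs, ?_⟩
  let χ : p →ₗ[A] B ⊗[A] I :=
    { toFun := fun a => φ ⟨algebraMap A B a, a.2⟩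
      map_add' := fun a a' => by rw [← map_add]; congr 1; exact Subtype.ext (map_add _ _ _)
      map_smul' := fun c a => by
        rw [RingHom.id_apply, ← algebraMap_smul B c (φ _), ← map_smul]
        congr 1
        exact Subtype.ext (by simp [Algebra.smul_def]) }
  obtain ⟨g, hg⟩ := hinj.out p.subtype p.injective_subtype χ
  have key : ∀ (z : B) (hz : z ∈ q), z ∈ p.map (algebraMap A B) → φ ⟨z, hz⟩ = z • g 1 := by
    intro z hz hzp
    let T : Submodule B q :=
      { carrier := {x | φ x = (x : B) • g 1}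
        add_mem' := fun {x y} hx hy => by
          show φ (x + y) = ((x + y : q) : B) • g 1
          rw [map_add, Submodule.coe_add, add_smul, hx, hy]
        zero_mem' := by
          show φ 0 = ((0 : q) : B) • g 1
          simp
        smul_mem' := fun c x hx => by
          show φ (c • x) = ((c • x : q) : B) • g 1
          rw [map_smul, Submodule.coe_smul, smul_eq_mul, mul_smul, hx] }
    have hle : p.map (algebraMap A B) ≤ T.map q.subtype := by
      refine Ideal.map_le_iff_le_comap.2 fun a ha => ⟨⟨algebraMap A B a, ha⟩, ?_, rfl⟩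
      show χ ⟨a, ha⟩ = algebraMap A B a • g 1
      rw [← hg ⟨a, ha⟩, algebraMap_smul, ← map_smul, smul_eq_mul, mul_one]
      rfl
    obtain ⟨x, hx, e⟩ := hle hzp
    obtain rfl : x = ⟨z, hz⟩ := Subtype.ext e
    exact hx
  refine ⟨s • g 1, fun x => ?_⟩
  rw [← map_smul, smul_smul, mul_comm (x : B)]
  exact key (s * x) (q.mul_mem_left s x.2) (hsq x x.2)

end Groth.Agent.InjHull18
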